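import Groth.Agent.CohDesc82.Tri

/-!
# Exactness in a single degree
-/

universe w v u

set_option autoImplicit false

namespace Groth.Agent.CohDesc82

section generic

variable {ι : Type w} {A : ι → Type v} [∀ i, AddCommGroup (A i)] {deg π : ι → ℕ}
  {D : (∀ i, A i) →+ (∀ i, A i)}

/-- Exactness of the slice `π = a` in total degree `k`. -/
def SliceExactAt (deg π : ι → ℕ) (D : (∀ i, A i) →+ (∀ i, A i)) (k a : ℕ) : Prop :=
  ∀ x, Supp deg k x → (∀ i, π i ≠ a → x i = 0) → (∀ i, π i = a → D x i = 0) →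
    ∃ y, Supp' deg k y ∧ (∀ i, π i ≠ a → y i = 0) ∧ ∀ i, π i = a → D y i = x i

lemma Filt.fillAt (hD : Filt deg π D) {k a₀ : ℕ} (hs : ∀ a, a₀ ≤ a → a ≤ k → SliceExactAt deg π D k a)
    (x : ∀ i, A i) (hk : Supp deg k x) (hx : D x = 0) (hge : ∀ i, π i < a₀ → x i = 0) :
    ∃ y, Supp' deg k y ∧ (∀ i, π i < a₀ → y i = 0) ∧ D y = x := by
  suffices H : ∀ m a, k + 1 ≤ a + m → a₀ ≤ a → ∀ x, Supp deg k x → D x = 0 → (∀ i, π i < a → x i = 0) →
      ∃ y, Supp' deg k y ∧ (∀ i, π i < a₀ → y i = 0) ∧ D y = x from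
    H (k + 1) a₀ (by omega) le_rfl x hk hx hge
  intro m
  induction m with
  | zero =>
    intro a ha _ x hk _ hlt
    refine ⟨0, fun _ _ => rfl, fun _ _ => rfl, ?_⟩
    rw [map_zero]
    funext i
    by_cases hd : deg i = k
    · exact (hlt i (by have := hD.le i; omega)).symm
    · exact (hk i hd).symm
  | succ m ih =>
    intro a ha haa x hk hx hlt
    by_cases hak : k < a
    · refine ⟨0, fun _ _ => rfl, fun _ _ => rfl, ?_⟩
      rw [map_zero]
      funext i
      by_cases hd : deg i = k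
      · exact (hlt i (by have := hD.le i; omega)).symm
      · exact (hk i hd).symm
    obtain ⟨y, hy, hya, hyx⟩ := hs a haa (Nat.le_of_not_lt hak) (part π a x)
      (fun i hi => by by_cases h : π i = a <;> simp [part, h, hk i hi])
      (fun i hi => part_ne hi) (fun i hi => by rw [hD.D_part hlt hi, hx]; rfl)
    have hyD : ∀ i, π i < a → D y i = 0 := hD.tri a y fun i hi => hya i hi.ne
    obtain ⟨y', hy', hy'0, hy'x⟩ := ih (a + 1) (by omega) (by omega) (x - D y)
      (fun i hi => by simp [hk i hi, hD.supp_D' hy i hi])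
      (by rw [map_sub, hx, hD.sq, sub_zero])
      (fun i hi => by
        rcases (Nat.lt_succ_iff.1 hi).lt_or_eq with h | h
        · simp [hlt i h, hyD i h]
        · simp [hyx i h, part_eq h])
    refine ⟨y + y', fun i hi => by simp [hy i hi, hy' i hi], fun i hi => ?_, ?_⟩
    · simp [hya i (by omega), hy'0 i hi]
    · rw [map_add, hy'x]; abel

lemma Filt.sliceAt_zero (hD : Filt deg π D) (hT : TotExact deg D) {k : ℕ}
    (hs : ∀ a, 1 ≤ a → a ≤ k + 1 → SliceExactAt deg π D (k + 1) a) : SliceExactAt deg π D k 0 := by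
  intro x hk hx hDx
  obtain ⟨z, hz, hz0, hzx⟩ := hD.fillAt hs (D x) (hD.supp k x hk) (hD.sq x)
    fun i hi => hDx i (by omega)
  obtain ⟨w, hw, hwx⟩ := hT k (x - z)
    (fun i hi => by simp [hk i hi, supp'_succ_iff.1 hz i hi]) (by rw [map_sub, hzx, sub_self])
  refine ⟨part π 0 w, fun i hi => by by_cases h : π i = 0 <;> simp [part, h, hw i hi],
    fun i hi => part_ne hi, fun i hi => ?_⟩
  rw [hD.D_part (fun j hj => absurd hj (by omega)) hi, hwx, Pi.sub_apply, hz0 i (by omega), sub_zero]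

end generic

/-- Exactness of the total complex in degree `k`. -/
def Bi.ExactAt (B : Bi.{u}) (k : ℕ) : Prop :=
  ∀ x : ∀ i, B.F i, Supp Bi.deg k x → B.D x = 0 → ∃ y, Supp' Bi.deg k y ∧ B.D y = x

theorem Bi.exact_iff_exactAt (B : Bi.{u}) : B.Exact ↔ ∀ k, B.ExactAt k := Iff.rfl

theorem Bi.Exact.exactAt {B : Bi.{u}} (h : B.Exact) (k : ℕ) : B.ExactAt k := h k

namespace Tri

variable (T : Tri.{u})

lemma sliceAt_of₁ {r k : ℕ} (h : (T.slice₁ r).ExactAt k) : SliceExactAt deg π₁ T.D (r + k) r := by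
  intro x hk hx hDx
  obtain ⟨y, hy, hyx⟩ := h (fun j => x (r, j)) (fun j hj => hk _ (by simp [deg, Bi.deg] at hj ⊢; omega))
    (funext fun j => by
      have h1 := hDx (r, j) rfl
      rw [T.D_slice₁ r x hx] at h1
      have h2 := congrArg ((-1 : ℤ) ^ r • ·) h1
      simp only [smul_smul, sign_sq, one_smul, smul_zero] at h2
      exact h2)
  refine ⟨T.ins₁ r ((-1 : ℤ) ^ r • y), fun i hi => ?_, fun i hi => T.ins₁_ne _ _ hi, fun i hi => ?_⟩
  · obtain ⟨r', j⟩ := i
    by_cases h' : r' = r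
    · subst h'
      rw [ins₁_self, Pi.smul_apply, hy j (by simp [deg, Bi.deg] at hi ⊢; omega), smul_zero]
    · exact T.ins₁_ne _ _ h'
  · obtain ⟨r', j⟩ := i
    obtain rfl : r' = r := hi
    rw [T.D_slice₁ r' _ (fun i hi => T.ins₁_ne _ _ hi),
      show (fun j => T.ins₁ r' ((-1 : ℤ) ^ r' • y) (r', j)) = (-1 : ℤ) ^ r' • y from funext (T.ins₁_self _ _),
      map_zsmul, hyx, Pi.smul_apply, smul_smul, sign_sq, one_smul]

lemma of_sliceAt₁ {r k : ℕ} (h : SliceExactAt deg π₁ T.D (r + k) r) : (T.slice₁ r).ExactAt k := by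
  intro z hk hz
  obtain ⟨y, hy, hy0, hyx⟩ := h (T.ins₁ r z) (fun i hi => by
      obtain ⟨r', j⟩ := i
      by_cases h' : r' = r
      · subst h'; rw [ins₁_self]; exact hk j (by simp [deg, Bi.deg] at hi ⊢; omega)
      · exact T.ins₁_ne _ _ h')
    (fun i hi => T.ins₁_ne _ _ hi) (fun i hi => by
      obtain ⟨r', j⟩ := i
      obtain rfl : r' = r := hi
      rw [T.D_slice₁ r' _ (fun i hi => T.ins₁_ne _ _ hi),
        show (fun j => T.ins₁ r' z (r', j)) = z from funext (T.ins₁_self _ _), hz]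
      exact smul_zero _)
  refine ⟨(-1 : ℤ) ^ r • fun j => y (r, j), fun j hj => ?_, funext fun j => ?_⟩
  · rw [Pi.smul_apply]
    exact (congrArg ((-1 : ℤ) ^ r • ·) (hy (r, j) (by simp [deg, Bi.deg] at hj ⊢; omega))).trans (smul_zero _)
  · rw [map_zsmul, Pi.smul_apply, ← T.ins₁_self r z j, ← hyx (r, j) rfl, T.D_slice₁ r y hy0]

/-- The first slice of the first kind in degree `k`, from the others in the degrees `k - r`. -/
theorem slice₁_zero_exactAt (hT : T.Exact) {k : ℕ}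
    (h : ∀ r, r ≤ k → (T.slice₁ (r + 1)).ExactAt (k - r)) : (T.slice₁ 0).ExactAt k := by
  have hs : ∀ a, 1 ≤ a → a ≤ k + 1 → SliceExactAt deg π₁ T.D (k + 1) a := fun a ha ha' => by
    obtain ⟨r, rfl⟩ : ∃ r, a = r + 1 := ⟨a - 1, by omega⟩
    obtain ⟨m, rfl⟩ : ∃ m, k = r + m := ⟨k - r, by omega⟩
    have := T.sliceAt_of₁ (h r (by omega))
    rw [Nat.add_sub_cancel_left] at this
    rwa [show r + m + 1 = r + 1 + m by omega]
  refine T.of_sliceAt₁ ?_
  rw [Nat.zero_add]
  exact T.filt₁.sliceAt_zero hT hs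

end Tri

end Groth.Agent.CohDesc82
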