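import Groth.Agent.CohDesc82.Grid
import Groth.Agent.CohDesc82.Hyper.Degree

/-!
# Contracted augmented diagrams, and bicomplexes of two indices
-/

universe u

set_option autoImplicit false
set_option linter.unusedVariables false
set_option backward.isDefEq.respectTransparency false
set_option backward.isDefEq.respectTransparency.types false

open CategoryTheory CategoryTheory.Limits Opposite TopologicalSpace Simplicial

namespace Groth.Agent.CohDesc82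

noncomputable section

variable {𝒮 : Type} [Category.{0} 𝒮] {Y : 𝒮 ⥤ TopCat.{u}}

/-- An extra degeneracy gives exactness. -/
theorem lvlBi_exact_of_contraction (K : CochainComplex (Sh Y) ℤ) (d : ℤ) (Φ : AΔᵒᵖ ⥤ 𝒮)
    (V : ∀ i, Opens (Y.obj (Φ.obj i))) (hV : ∀ {i j} (f : i ⟶ j), ∀ x ∈ V i, Y.map (Φ.map f) x ∈ V j)
    (c : ∀ m : ℕ, Φ.obj (op (idx m)) ⟶ Φ.obj (op (idx (m + 1))))
    (hc : ∀ m, ∀ x ∈ V (op (idx m)), Y.map (c m) x ∈ V (op (idx (m + 1))))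
    (c0 : c 0 ≫ Φ.map (fromStar (WithInitial.of ⦋0⦌)).op = 𝟙 _)
    (c1 : ∀ p, c (p + 1) ≫ Φ.map (WithInitial.incl.map (SimplexCategory.δ (0 : Fin (p + 2)))).op = 𝟙 _)
    (c2 : c 1 ≫ Φ.map (WithInitial.incl.map (SimplexCategory.δ (1 : Fin 2))).op =
      Φ.map (fromStar (WithInitial.of ⦋0⦌)).op ≫ c 0)
    (c3 : ∀ p (k : Fin (p + 2)), c (p + 2) ≫ Φ.map (WithInitial.incl.map (SimplexCategory.δ k.succ)).op =
      Φ.map (WithInitial.incl.map (SimplexCategory.δ k)).op ≫ c (p + 1)) :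
    (lvlBi K d (lvlF Φ V hV)).Exact := by
  refine Bi.exact_of_rows _ fun n => ?_
  let P := (K.X (d + n)).obj
  let C : AΔ ⥤ AddCommGrpCat.{u} := lvlF Φ V hV ⋙ P
  let σ : ∀ m, C.obj (idx (m + 1)) →+ C.obj (idx m) := fun m => mv P (c m) (hc m)
  have h0 : ∀ x : C.obj (idx 0), σ 0 (cd C 0 x) = x := fun x => by
    rw [cd_zero]
    refine (mv_mv P (hc 0) (hV (fromStar (WithInitial.of ⦋0⦌)).op) (𝟙 _) c0 (le_id le_rfl) x).trans ?_
    exact mv_self P _ rfl _ x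
  have h1 : ∀ p (x : C.obj (idx (p + 1))), σ (p + 1) (cd C (p + 1) x) + cd C p (σ p x) = x := fun p x => by
    rw [cd_succ, map_sum, Fin.sum_univ_succ]
    have e0 : σ (p + 1) ((-1 : ℤ) ^ ((0 : Fin (p + 2)) : ℕ) •
        (C.map (WithInitial.incl.map (SimplexCategory.δ (0 : Fin (p + 2))))).hom x) = x := by
      rw [Fin.val_zero, pow_zero, one_smul]
      refine (mv_mv P (hc (p + 1)) (hV _) (𝟙 _) (c1 p) (le_id le_rfl) x).trans ?_
      exact mv_self P _ rfl _ x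
    refine (congrArg₂ (· + ·) (congrArg (· + _) e0) rfl).trans ((add_assoc _ _ _).trans (add_eq_left.2 ?_))
    rcases p with _ | p
    · rw [Fin.sum_univ_one, cd_zero]
      simp only [Fin.val_succ, Fin.val_zero, zero_add, pow_one, neg_smul, one_smul, map_neg]
      rw [neg_add_eq_zero]
      refine (mv_mv P (hc 1) (hV _) _ c2 (fun z hz => by
        rw [Y.map_comp]; exact hc 0 _ (hV _ z hz)) x).trans ?_
      exact (mv_mv P (hV (fromStar (WithInitial.of ⦋0⦌)).op) (hc 0) _ rfl _ x).symm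
    · rw [cd_succ, ← Finset.sum_add_distrib]
      refine Finset.sum_eq_zero fun k _ => ?_
      rw [Fin.val_succ, pow_succ, mul_neg, mul_one, map_zsmul, neg_smul, neg_add_eq_zero]
      refine congrArg _ ?_
      refine (mv_mv P (hc (p + 2)) (hV _) _ (c3 p k) (fun z hz => by
        rw [Y.map_comp]; exact hc (p + 1) _ (hV _ z hz)) x).trans ?_
      exact (mv_mv P (hV (WithInitial.incl.map (SimplexCategory.δ k)).op) (hc (p + 1)) _ rfl _ x).symm
  refine ⟨fun x hx => ?_, fun p x hx => ⟨σ p x, ?_⟩⟩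
  · have hx' : cd C 0 x = 0 := hx
    exact (h0 x).symm.trans ((congrArg (σ 0) hx').trans (map_zero _))
  · have hx' : cd C (p + 1) x = 0 := hx
    have := h1 p x
    rw [hx', map_zero, zero_add] at this
    exact this

/-- The slice at a fixed second index. -/
abbrev slice₁F (Φ : AΔᵒᵖ × AΔᵒᵖ ⥤ 𝒮) (j : AΔᵒᵖ) : AΔᵒᵖ ⥤ 𝒮 := Prod.sectL AΔᵒᵖ j ⋙ Φ

/-- The slice at a fixed first index. -/
abbrev slice₂F (Φ : AΔᵒᵖ × AΔᵒᵖ ⥤ 𝒮) (i : AΔᵒᵖ) : AΔᵒᵖ ⥤ 𝒮 := Prod.sectR i AΔᵒᵖ ⋙ Φ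

variable {T : 𝒮} (hT : IsTerminal T)

/-- The preimages of an open of the final space. -/
abbrev levT (U : Opens (Y.obj T)) (s : 𝒮) : Opens (Y.obj s) := (Opens.map (Y.map (hT.from s))).obj U

theorem mem_levT (U : Opens (Y.obj T)) {s t : 𝒮} (f : s ⟶ t) : ∀ x ∈ levT hT U s, Y.map f x ∈ levT hT U t :=
  fun x (hx : Y.map (hT.from s) x ∈ U) => by
    show Y.map (hT.from t) (Y.map f x) ∈ U
    rwa [← ConcreteCategory.comp_apply, ← Functor.map_comp, hT.hom_ext (f ≫ hT.from t) (hT.from s)]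

/-- The levels along a diagram. -/
abbrev lvlT (U : Opens (Y.obj T)) (Φ : AΔᵒᵖ ⥤ 𝒮) : AΔ ⥤ (Pseudofunctor.CoGrothendieck (osF Y))ᵒᵖ :=
  lvlF Φ (fun i => levT hT U (Φ.obj i)) (fun f => mem_levT hT U (Φ.map f))

theorem lev_levT (U : Opens (Y.obj T)) (Φ : AΔᵒᵖ ⥤ 𝒮) (i : AΔᵒᵖ) :
    lev (Φ ⋙ Y) (levT hT U (Φ.obj B0)) i = levT hT U (Φ.obj i) := by
  ext x
  show Y.map (hT.from (Φ.obj B0)) (Y.map (Φ.map (hbot.from i)) x) ∈ U ↔ Y.map (hT.from (Φ.obj i)) x ∈ U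
  rw [← ConcreteCategory.comp_apply, ← Functor.map_comp, hT.hom_ext (Φ.map (hbot.from i) ≫ hT.from _) (hT.from _)]

theorem lvlT_exact_of_crit {K : CochainComplex (Sh Y) ℤ} (d : ℤ) [K.IsStrictlyGE d]
    (hfl : ∀ n, FlFib (K.X n).obj) (hK : Cart K) (Φ : AΔᵒᵖ ⥤ 𝒮) (hc : Crit (Φ ⋙ Y)) (U : Opens (Y.obj T)) :
    (lvlBi K d (lvlT hT U Φ)).Exact :=
  lvlBi_exact_of_crit Φ d hfl hK hc _ _ (fun f => mem_levT hT U (Φ.map f)) (lev_levT hT U Φ)

/-- The triple complex of a diagram with two indices. -/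
abbrev biTri (Φ : AΔᵒᵖ × AΔᵒᵖ ⥤ 𝒮) (K : CochainComplex (Sh Y) ℤ) (d : ℤ) (U : Opens (Y.obj T)) : Tri.{u} where
  A r p n := sec (K.X (d + n)).obj (Φ.obj (op (idx r), op (idx p))) (levT hT U _)
  a r p n := cd (lvlT hT U (slice₁F Φ (op (idx p))) ⋙ (K.X (d + n)).obj) r
  b r p n := cd (lvlT hT U (slice₂F Φ (op (idx r))) ⋙ (K.X (d + n)).obj) p
  c r p n := ((K.d (d + n) (d + (n + 1 : ℕ))).hom.app
    (op (pl (Φ.obj (op (idx r), op (idx p))) (levT hT U _)))).hom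
  aa r p n x := cd_cd (lvlT hT U (slice₁F Φ (op (idx p))) ⋙ (K.X (d + n)).obj) r x
  bb r p n x := cd_cd (lvlT hT U (slice₂F Φ (op (idx r))) ⋙ (K.X (d + n)).obj) p x
  cc r p n x := ConcreteCategory.congr_hom
    (congrArg (fun q => q.hom.app (op (pl (Φ.obj (op (idx r), op (idx p))) (levT hT U _))))
      (K.d_comp_d (d + n) (d + (n + 1 : ℕ)) (d + (n + 1 + 1 : ℕ)))) x
  ab r p n x := by
    let P := (K.X (d + n)).obj
    let C : AΔ → (AΔ ⥤ AddCommGrpCat.{u}) := fun i => lvlT hT U (slice₂F Φ (op i)) ⋙ P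
    let φ : lvlT hT U (slice₁F Φ (op (idx p))) ⋙ P ⟶ lvlT hT U (slice₁F Φ (op (idx (p + 1)))) ⋙ P :=
      { app := fun i => AddCommGrpCat.ofHom (cd (C i) p)
        naturality := fun i i' f => by
          refine ConcreteCategory.hom_ext _ _ fun y => ?_
          let ψ : C i ⟶ C i' :=
            { app := fun j => P.map (hm (Φ.map (CategoryTheory.Prod.mkHom (f.op : op i' ⟶ op i) (𝟙 (op j) : op j ⟶ op j)))
                (mem_levT hT U _)).op
              naturality := fun j j' g => by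
                refine (P.map_comp _ _).symm.trans
                  (Eq.trans (congrArg P.map (congrArg Quiver.Hom.op ?_)) (P.map_comp _ _))
                refine hom_ext' _ _ ((Φ.map_comp _ _).symm.trans ((congrArg Φ.map ?_).trans (Φ.map_comp _ _)))
                exact Prod.ext ((Category.comp_id _).trans (Category.id_comp _).symm)
                  ((Category.id_comp _).trans (Category.comp_id _).symm) }
          exact (cd_natural ψ p y).symm }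
    exact (cd_natural φ r x).symm
  ac r p n x :=
    (cd_natural (Functor.whiskerLeft (lvlT hT U (slice₁F Φ (op (idx p)))) (K.d (d + n) (d + (n + 1 : ℕ))).hom) r x).symm
  bc r p n x :=
    (cd_natural (Functor.whiskerLeft (lvlT hT U (slice₂F Φ (op (idx r)))) (K.d (d + n) (d + (n + 1 : ℕ))).hom) p x).symm

theorem biTri_slice₁_exactAt {Φ : AΔᵒᵖ × AΔᵒᵖ ⥤ 𝒮} {K : CochainComplex (Sh Y) ℤ} {d : ℤ} {U : Opens (Y.obj T)}
    (r k : ℕ) (h : (lvlBi K d (lvlT hT U (slice₂F Φ (op (idx r))))).ExactAt k) :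
    ((biTri hT Φ K d U).slice₁ r).ExactAt k := h

theorem biTri_slice₂_exact {Φ : AΔᵒᵖ × AΔᵒᵖ ⥤ 𝒮} {K : CochainComplex (Sh Y) ℤ} {d : ℤ} {U : Opens (Y.obj T)}
    (p : ℕ) (h : (lvlBi K d (lvlT hT U (slice₁F Φ (op (idx p))))).Exact) :
    ((biTri hT Φ K d U).slice₂ p).Exact := h

theorem exactAt_of_biTri {Φ : AΔᵒᵖ × AΔᵒᵖ ⥤ 𝒮} {K : CochainComplex (Sh Y) ℤ} {d : ℤ} {U : Opens (Y.obj T)}
    (k : ℕ) (h : ((biTri hT Φ K d U).slice₁ 0).ExactAt k) :
    (lvlBi K d (lvlT hT U (slice₂F Φ B0))).ExactAt k := h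

end

end Groth.Agent.CohDesc82
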