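import Groth.Agent.CohDesc82.Hyper.Main
import Mathlib.AlgebraicTopology.SimplicialObject.Basic
import Mathlib.CategoryTheory.Functor.KanExtension.Adjunction
import Mathlib.CategoryTheory.Limits.Constructions.Over.Basic

/-!
# The matching maps of a hypercovering
-/

universe u

set_option autoImplicit false
set_option linter.unusedVariables false
set_option backward.isDefEq.respectTransparency false
set_option backward.isDefEq.respectTransparency.types false

open CategoryTheory CategoryTheory.Limits Opposite TopologicalSpace Simplicial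

namespace Groth.Agent.CohDesc82.Hyper

noncomputable section

variable {S : TopCat.{u}} (K : SimplicialObject (Over S))

/-- The augmented diagram of a simplicial space over a base. -/
abbrev augK : AΔᵒᵖ ⥤ TopCat.{u} :=
  AugmentedSimplexCategory.equivAugmentedSimplicialObject.inverse.obj
    (SimplicialObject.augment (K ⋙ Over.forget S) S (K.obj (op (SimplexCategory.mk 0))).hom
      (fun i g₁ g₂ => (Over.w (K.map g₁.op)).trans (Over.w (K.map g₂.op)).symm))

theorem augK_map {p q : ℕ} (θ : ⦋p⦌ ⟶ ⦋q⦌) : (augK K).map (WithInitial.incl.map θ).op = (K.map θ.op).left := rfl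

theorem augK_hom (p : ℕ) :
    (augK K).map (fromStar (WithInitial.of ⦋p⦌)).op = (K.obj (op ⦋p⦌)).hom :=
  (show _ = (K.map (SimplexCategory.const _ _ 0).op).left ≫ (K.obj (op (SimplexCategory.mk 0))).hom by rfl).trans
    (Over.w (K.map (SimplexCategory.const ⦋0⦌ ⦋p⦌ 0).op))

/-- The simplex given by a monotone map. -/
def sOf {n k : ℕ} (θ : Fin k →o Fin (n + 1)) : (join emp (n + 1)).Simp k := (fund (n + 1)).comp θ

/-- The simplex of the boundary given by a small monotone map. -/
def sB {n k : ℕ} (θ : Fin k →o Fin (n + 1)) (hk : k ≤ n) : (bdry n).Simp k :=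
  corestr (sOf θ) ⟨img'_mem _, (Finset.card_image_le).trans (by simpa using hk)⟩

theorem sB_comp {n k l : ℕ} (θ : Fin l →o Fin (n + 1)) (hl : l ≤ n) (ρ : Fin k →o Fin l) (hk : k ≤ n) :
    (sB θ hl).comp ρ = sB (θ.comp ρ) hk := Subtype.ext (funext fun a => Subtype.ext rfl)

/-- Every simplex of the boundary comes from a small one. -/
theorem exists_small {n k : ℕ} (g : (bdry n).Simp k) :
    ∃ (c : ℕ) (hc : c ≤ n) (θ : Fin c →o Fin (n + 1)) (ρ : Fin k →o Fin c), g = (sB θ hc).comp ρ := by
  let g' : (join emp (n + 1)).Simp k := push (incl (bdry_sub n)) g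
  let σ : Finset (Fin (n + 1)) := Finset.univ.image (toOrd g')
  have hc : σ.card ≤ n := by
    refine le_trans ?_ (img'_mem g).2
    refine Finset.card_le_card_of_injOn (fun a => vr (a : ℕ)) (fun a ha => ?_) fun a _ b _ h =>
      Fin.ext (Sum.inr_injective (toLex_inj.1 h))
    obtain ⟨b, -, rfl⟩ := Finset.mem_image.1 ha
    exact Finset.mem_coe.2 (Finset.mem_image.2 ⟨b, Finset.mem_univ _, toOrd_spec g' b⟩)
  let e := σ.orderIsoOfFin rfl
  refine ⟨σ.card, hc, ⟨fun a => (e a : Fin (n + 1)), fun a b h => e.monotone h⟩,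
    ⟨fun a => e.symm ⟨toOrd g' a, Finset.mem_image.2 ⟨a, Finset.mem_univ _, rfl⟩⟩,
      fun a b h => e.symm.monotone ((toOrd g').monotone h)⟩, Subtype.ext (funext fun a => Subtype.ext ?_)⟩
  show (g'.1 a).1 = vr ((e (e.symm ⟨toOrd g' a, Finset.mem_image.2 ⟨a, Finset.mem_univ _, rfl⟩⟩) : Fin (n + 1)) : ℕ)
  rw [OrderIso.apply_symm_apply]
  exact toOrd_spec g' a

theorem simplexIso_inv_coord {Z : AΔᵒᵖ ⥤ TopCat.{u}} {n k : ℕ} (θ : Fin k →o Fin (n + 1)) (hk : k ≤ n) :
    (simplexIso Z (n + 1)).inv ≫ (secY Z).map (incl (bdry_sub n)).op ≫ coord (sB θ hk) = Z.map (mo θ).op := by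
  rw [secY_map_coord]
  show Z.map (mo (toOrd (push (incl (bdry_sub n)) (sB θ hk)))).op = _
  rw [toOrd_unique (push (incl (bdry_sub n)) (sB θ hk)) θ fun a => rfl]

theorem matching_ucd {Z : AΔᵒᵖ ⥤ TopCat.{u}} {n : ℕ} {W : TopCat.{u}} {w : Z.obj (op (idx (n + 1))) ⟶ W}
    (hw : UCD w) (φ : Sec Z (bdry n) ⟶ W)
    (h : ∀ (c : ℕ) (hc : c ≤ n) (θ : Fin c →o Fin (n + 1)),
      pullback.fst w φ ≫ Z.map (mo θ).op = pullback.snd w φ ≫ coord (sB θ hc)) :
    UCD ((secY Z).map (incl (bdry_sub n)).op) := by
  refine (hw.baseChange φ).of_factor (pullback.fst w φ ≫ (simplexIso Z (n + 1)).inv) ?_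
  refine sec_hom_ext fun k g => ?_
  obtain ⟨c, hc, θ, ρ, rfl⟩ := exists_small g
  rw [← coord_map ρ (sB θ hc), ← Category.assoc, ← Category.assoc]
  refine congrArg (· ≫ Z.map (mo ρ).op) ?_
  rw [Category.assoc, Category.assoc, simplexIso_inv_coord θ hc]
  exact h c hc θ

variable {K}

theorem mu_of_hyp
    [∀ (n : ℕ) (G : (SimplexCategory.Truncated n)ᵒᵖ ⥤ Over S),
      (SimplexCategory.Truncated.inclusion n).op.HasRightKanExtension G]
    (h0 : UCD (K.obj (op (SimplexCategory.mk 0))).hom)
    (hn : ∀ n : ℕ, UCD (((SimplicialObject.coskAdj n).unit.app K).app (op (SimplexCategory.mk (n + 1)))).left) :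
    MU (augK K) := by
  intro n
  rcases n with _ | n
  · refine matching_ucd (Z := augK K) (n := 0) (W := S) (w := (K.obj (op (SimplexCategory.mk 0))).hom) h0
      (coord (sB ⟨fun a => Fin.elim0 a, fun a => Fin.elim0 a⟩ le_rfl)) fun c hc θ => ?_
    obtain rfl : c = 0 := Nat.le_zero.1 hc
    obtain rfl : θ = ⟨fun a => Fin.elim0 a, fun a => Fin.elim0 a⟩ := OrderHom.ext _ _ (funext fun a => Fin.elim0 a)
    exact (congrArg (_ ≫ ·) (augK_hom K 0)).trans pullback.condition
  · let L := (SimplexCategory.Truncated.inclusion n).op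
    let G : (SimplexCategory.Truncated n)ᵒᵖ ⥤ Over S := L ⋙ K
    have : L.HasPointwiseRightKanExtension G := fun Y => inferInstance
    let η := (SimplicialObject.coskAdj n).unit.app K
    let hlim := L.isPointwiseRightKanExtensionRanCounit G (op ⦋n + 1⦌)
    let empS : (bdry (n + 1)).Simp 0 := sB ⟨fun a => Fin.elim0 a, fun a => Fin.elim0 a⟩ (Nat.zero_le _)
    let pt : Over S := Over.mk (coord (Z := augK K) empS : Sec (augK K) (bdry (n + 1)) ⟶ S)
    let θf : ∀ g : StructuredArrow (op ⦋n + 1⦌) L, Fin (g.right.unop.obj.len + 1) →o Fin (n + 1 + 1) :=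
      fun g => (g.hom.unop).toOrderHom
    have hle : ∀ g : StructuredArrow (op ⦋n + 1⦌) L, g.right.unop.obj.len + 1 ≤ n + 1 :=
      fun g => Nat.succ_le_succ g.right.unop.property
    let s : Cone (StructuredArrow.proj (op ⦋n + 1⦌) L ⋙ G) :=
      { pt := pt
        π :=
          { app := fun g => Over.homMk (coord (Z := augK K) (sB (θf g) (hle g))) (by
              refine (congrArg (coord (Z := augK K) (sB (θf g) (hle g)) ≫ ·) (augK_hom K g.right.unop.obj.len).symm).trans ?_
              refine (coord_map (Z := augK K) (⟨fun a => Fin.elim0 a, fun a => Fin.elim0 a⟩ : Fin 0 →o Fin (g.right.unop.obj.len + 1))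
                (sB (θf g) (hle g))).trans ?_
              exact congrArg coord (Subtype.ext (funext fun a => Fin.elim0 a)))
            naturality := fun g g' φ => by
              refine Over.OverMorphism.ext ?_
              refine (Category.id_comp _).trans ?_
              refine Eq.trans ?_ ((congrArg (coord (Z := augK K) (sB (θf g) (hle g)) ≫ ·)
                (augK_map K φ.right.unop.hom)).symm.trans rfl)
              refine Eq.trans ?_ (coord_map (Z := augK K) (SimplexCategory.Hom.toOrderHom φ.right.unop.hom) (sB (θf g) (hle g))).symm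
              refine congrArg coord (Subtype.ext (funext fun a => Subtype.ext ?_))
              show vr (θf g' a : ℕ) = vr (θf g (SimplexCategory.Hom.toOrderHom φ.right.unop.hom a) : ℕ)
              have e : θf g' = (θf g).comp (SimplexCategory.Hom.toOrderHom φ.right.unop.hom) := by
                show (g'.hom.unop).toOrderHom = _
                rw [← StructuredArrow.w φ]
                rfl
              rw [e]
              rfl } }
    let φb := hlim.lift s
    refine matching_ucd (Z := augK K) (n := n + 1) (w := (η.app (op ⦋n + 1⦌)).left) (hn n) φb.left fun c hc θ => ?_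
    have hcond := pullback.condition (f := (η.app (op ⦋n + 1⦌)).left) (g := φb.left)
    rcases c with _ | m
    · obtain rfl : θ = ⟨fun a => Fin.elim0 a, fun a => Fin.elim0 a⟩ := OrderHom.ext _ _ (funext fun a => Fin.elim0 a)
      refine (congrArg (_ ≫ ·) (augK_hom K (n + 1))).trans ?_
      refine (congrArg (_ ≫ ·) (Over.w (η.app (op ⦋n + 1⦌))).symm).trans ?_
      refine (pullback.condition_assoc _).trans ?_
      exact congrArg (_ ≫ ·) (Over.w φb)
    · let T : (SimplexCategory.Truncated n)ᵒᵖ := op ⟨⦋m⦌, Nat.le_of_succ_le_succ hc⟩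
      let g : StructuredArrow (op ⦋n + 1⦌) L := StructuredArrow.mk (Y := T) (Quiver.Hom.op (show (⦋m⦌ : SimplexCategory) ⟶ ⦋n + 1⦌ from SimplexCategory.Hom.mk θ))
      have e2 : φb.left ≫ ((L.ran.obj G).map g.hom).left ≫ ((L.ranCounit.app G).app T).left =
          coord (Z := augK K) (sB θ hc) := congrArg (fun q => q.left) (hlim.fac s g)
      have tri : η.app (L.obj T) ≫ (L.ranCounit.app G).app T = 𝟙 _ := by
        have h1 := congrArg (fun q => q.app T) ((SimplicialObject.coskAdj n).left_triangle_components K)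
        have h2 : (SimplicialObject.coskAdj n).counit.app G = L.ranCounit.app G := by
          show (L.ranAdjunction (Over S)).counit.app G = _
          rw [L.ranAdjunction_counit]
        rw [← h2]
        exact h1
      have e1 : (η.app (op ⦋n + 1⦌)).left ≫ ((L.ran.obj G).map g.hom).left ≫ ((L.ranCounit.app G).app T).left =
          (augK K).map (mo θ).op := by
        refine Eq.trans ?_ (augK_map K (SimplexCategory.Hom.mk θ)).symm
        refine congrArg (fun q => q.left) (show η.app (op ⦋n + 1⦌) ≫ (L.ran.obj G).map g.hom ≫ (L.ranCounit.app G).app T = K.map g.hom from ?_)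
        refine ((Category.assoc _ _ _).symm.trans (congrArg (· ≫ _) (η.naturality g.hom).symm)).trans ?_
        exact ((Category.assoc _ _ _).trans (congrArg (_ ≫ ·) tri)).trans (Category.comp_id _)
      rw [← e1, ← e2]
      exact pullback.condition_assoc _

theorem crit_hypercover
    [∀ (n : ℕ) (G : (SimplexCategory.Truncated n)ᵒᵖ ⥤ Over S),
      (SimplexCategory.Truncated.inclusion n).op.HasRightKanExtension G]
    (h0 : UCD (K.obj (op (SimplexCategory.mk 0))).hom)
    (hn : ∀ n : ℕ, UCD (((SimplicialObject.coskAdj n).unit.app K).app (op (SimplexCategory.mk (n + 1)))).left) :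
    Crit (augK K) := crit_of_MU (mu_of_hyp h0 hn)

end

end Groth.Agent.CohDesc82.Hyper
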