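import Groth.Agent.CohDesc82.Crit
import Mathlib.Data.Sum.Order
import Mathlib.Data.Prod.Lex
import Mathlib.Data.Finset.Image

/-!
# Ordered complexes and the spaces of their simplices in an augmented simplicial space
-/

universe u

set_option autoImplicit false
set_option linter.unusedVariables false
set_option backward.isDefEq.respectTransparency false
set_option backward.isDefEq.respectTransparency.types false

open CategoryTheory CategoryTheory.Limits Opposite TopologicalSpace Simplicial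

namespace Groth.Agent.CohDesc82.Hyper

noncomputable section

/-- Vertices: a lexicographic square, followed by a sequence. -/
abbrev Vx : Type := (ℕ ×ₗ ℕ) ⊕ₗ ℕ

/-- A vertex of the square. -/
abbrev vl (a b : ℕ) : Vx := toLex (Sum.inl (toLex (a, b)))

/-- A vertex of the sequence. -/
abbrev vr (i : ℕ) : Vx := toLex (Sum.inr i)

theorem vl_lt_vr (a b i : ℕ) : vl a b < vr i := Sum.Lex.inl_lt_inr _ _

theorem vr_le_iff {i j : ℕ} : vr i ≤ vr j ↔ i ≤ j := Sum.Lex.inr_le_inr_iff

theorem lt_vr_zero (v : Vx) (h : ∀ i, v ≠ vr i) : v < vr 0 := by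
  rcases hv : ofLex v with w | i
  · rw [show v = toLex (Sum.inl w) from hv ▸ (toLex_ofLex v).symm]
    exact Sum.Lex.inl_lt_inr _ _
  · exact absurd (hv ▸ (toLex_ofLex v).symm : v = toLex (Sum.inr i)) (h i)

theorem not_lt_vr_zero (i : ℕ) : ¬ vr i < vr 0 := not_lt.2 (vr_le_iff.2 (Nat.zero_le i))

/-- Ordered complexes on the vertices. -/
@[ext]
structure Cx : Type where
  /-- the faces -/
  F : Finset Vx → Prop
  empty : F ∅
  down : ∀ {s t : Finset Vx}, s ⊆ t → F t → F s

/-- The vertices of a complex. -/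
abbrev Cx.Vert (C : Cx) : Type := {v : Vx // C.F {v}}

/-- Simplices, possibly degenerate. -/
def Cx.IsSimp (C : Cx) {k : ℕ} (g : Fin k → C.Vert) : Prop :=
  Monotone g ∧ C.F (Finset.univ.image fun a => (g a).1)

theorem Cx.IsSimp.comp {C : Cx} {k l : ℕ} {g : Fin l → C.Vert} (h : C.IsSimp g) (θ : Fin k →o Fin l) :
    C.IsSimp (g ∘ θ) :=
  ⟨h.1.comp θ.monotone, C.down (fun v hv => by
    obtain ⟨a, -, rfl⟩ := Finset.mem_image.1 hv
    exact Finset.mem_image.2 ⟨θ a, Finset.mem_univ _, rfl⟩) h.2⟩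

/-- Simplicial maps. -/
@[ext]
structure CxHom (C D : Cx) : Type where
  /-- the map of vertices -/
  f : C.Vert → D.Vert
  simp' : ∀ {k : ℕ} {g : Fin k → C.Vert}, C.IsSimp g → D.IsSimp (f ∘ g)

instance : Category.{0} Cx where
  Hom := CxHom
  id C := ⟨id, fun h => h⟩
  comp φ ψ := ⟨ψ.f ∘ φ.f, fun h => ψ.simp' (φ.simp' h)⟩

/-- The simplicial map of a map of all vertices. -/
def mkHom {C D : Cx} (φ : Vx → Vx) (h : ∀ s, C.F s → D.F (s.image φ) ∧ MonotoneOn φ s) : C ⟶ D where
  f v := ⟨φ v.1, by simpa using (h _ v.2).1⟩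
  simp' {k g} hg := by
    obtain ⟨h1, h2⟩ := h _ hg.2
    refine ⟨fun a b hab => ?_, ?_⟩
    · exact h2 (Finset.mem_coe.2 (Finset.mem_image.2 ⟨a, Finset.mem_univ _, rfl⟩))
        (Finset.mem_coe.2 (Finset.mem_image.2 ⟨b, Finset.mem_univ _, rfl⟩)) (hg.1 hab)
    · rw [Finset.image_image] at h1
      exact h1

theorem mkHom_f {C D : Cx} (φ : Vx → Vx) (h : ∀ s, C.F s → D.F (s.image φ) ∧ MonotoneOn φ s) (v : C.Vert) :
    ((mkHom φ h : C ⟶ D).f v).1 = φ v.1 := rfl

theorem hom_ext {C D : Cx} {φ ψ : C ⟶ D} (h : ∀ v : C.Vert, (φ.f v).1 = (ψ.f v).1) : φ = ψ :=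
  CxHom.ext (funext fun v => Subtype.ext (h v))

theorem comp_f {C D E : Cx} (φ : C ⟶ D) (ψ : D ⟶ E) (v : C.Vert) : (φ ≫ ψ).f v = ψ.f (φ.f v) := rfl

/-- The vertices are below a bound. -/
def Below (A : Cx) (c : Vx) : Prop := ∀ v, A.F {v} → v < c

theorem Below.filter {A : Cx} {c : Vx} (h : Below A c) {s : Finset Vx} (hs : A.F s) : s.filter (· < c) = s :=
  Finset.filter_true_of_mem fun v hv => h v (A.down (Finset.singleton_subset_iff.2 hv) hs)

/-- Adding a block of vertices above a bound. -/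
def addBlock (A : Cx) (c : Vx) (P : Finset Vx → Prop) (h0 : P ∅) (hP : ∀ {s t}, s ⊆ t → P t → P s) : Cx where
  F s := A.F (s.filter (· < c)) ∧ P (s.filter fun v => ¬ v < c)
  empty := ⟨by simpa using A.empty, by simpa using h0⟩
  down hst h := ⟨A.down (Finset.filter_subset_filter _ hst) h.1, hP (Finset.filter_subset_filter _ hst) h.2⟩

/-- The joins with simplices. -/
def join (A : Cx) (k : ℕ) : Cx :=
  addBlock A (vr 0) (fun s => ∀ v ∈ s, ∃ i, i < k ∧ v = vr i) (fun v hv => absurd hv (Finset.notMem_empty v))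
    fun hst h v hv => h v (hst hv)

/-- The joins with discrete sets. -/
def disc (A : Cx) (N j : ℕ) : Cx :=
  addBlock A (vl N 0) (fun s => ∀ v ∈ s, (∃ b, b < j ∧ v = vl N b) ∧ ∀ w ∈ s, w = v)
    (fun v hv => absurd hv (Finset.notMem_empty v))
    fun hst h v hv => ⟨(h v (hst hv)).1, fun w hw => (h v (hst hv)).2 w (hst hw)⟩

/-- The complex without vertices. -/
def emp : Cx where
  F s := s = ∅
  empty := rfl
  down hst h := Finset.subset_empty.1 (h ▸ hst)

theorem join_F {A : Cx} {k : ℕ} {s : Finset Vx} :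
    (join A k).F s ↔ A.F (s.filter (· < vr 0)) ∧ ∀ i, vr i ∈ s → i < k := by
  refine and_congr_right fun _ => ⟨fun h i hi => ?_, fun h v hv => ?_⟩
  · obtain ⟨j, hj, e⟩ := h (vr i) (Finset.mem_filter.2 ⟨hi, not_lt_vr_zero i⟩)
    obtain rfl : i = j := Sum.inr_injective (toLex_inj.1 e)
    exact hj
  · obtain ⟨hv, hv'⟩ := Finset.mem_filter.1 hv
    obtain ⟨i, rfl⟩ : ∃ i, v = vr i := by
      by_contra hc
      exact hv' (lt_vr_zero v fun i e => hc ⟨i, e⟩)
    exact ⟨i, h i hv, rfl⟩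

theorem join_vert {A : Cx} {k : ℕ} (v : (join A k).Vert) :
    (v.1 < vr 0 ∧ A.F {v.1}) ∨ ∃ i, i < k ∧ v.1 = vr i := by
  obtain ⟨h1, h2⟩ := join_F.1 v.2
  by_cases hv : v.1 < vr 0
  · refine Or.inl ⟨hv, ?_⟩
    rwa [Finset.filter_singleton, if_pos hv] at h1
  · obtain ⟨i, e⟩ : ∃ i, v.1 = vr i := by
      by_contra hc
      exact hv (lt_vr_zero v.1 fun i e => hc ⟨i, e⟩)
    exact Or.inr ⟨i, h2 i (Finset.mem_singleton.2 e.symm), e⟩

/-- The number of points. -/
def cardF : AΔ → ℕ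
  | .star => 0
  | .of x => x.len + 1

/-- The monotone map of a morphism. -/
def ordH : ∀ {i j : AΔ}, (i ⟶ j) → (Fin (cardF i) →o Fin (cardF j))
  | .of x, .of y, f => (WithInitial.down f).toOrderHom
  | .star, _, _ => ⟨fun a => Fin.elim0 a, fun a => Fin.elim0 a⟩

theorem ordH_id (i : AΔ) : ordH (𝟙 i) = OrderHom.id := by
  cases i with
  | star => exact OrderHom.ext _ _ (funext fun a => Fin.elim0 a)
  | of x => rfl

theorem ordH_comp {i j l : AΔ} (f : i ⟶ j) (g : j ⟶ l) : ordH (f ≫ g) = (ordH g).comp (ordH f) := by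
  cases i with
  | star => exact OrderHom.ext _ _ (funext fun a => Fin.elim0 a)
  | of x =>
    cases j with
    | star => exact PEmpty.elim f
    | of y =>
      cases l with
      | star => exact PEmpty.elim g
      | of z => rfl

/-- The morphism of a monotone map. -/
def mo : ∀ {k l : ℕ}, (Fin k →o Fin l) → (idx k ⟶ idx l)
  | 0, _, _ => fromStar _
  | _ + 1, 0, θ => Fin.elim0 (θ 0)
  | _ + 1, _ + 1, θ => WithInitial.incl.map (SimplexCategory.Hom.mk θ)

theorem mo_id (k : ℕ) : mo (OrderHom.id : Fin k →o Fin k) = 𝟙 _ := by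
  cases k with
  | zero => exact WithInitial.starInitial.hom_ext _ _
  | succ k => exact WithInitial.incl.map_id (⦋k⦌ : SimplexCategory)

theorem mo_comp {k l m : ℕ} (θ : Fin k →o Fin l) (η : Fin l →o Fin m) : mo (η.comp θ) = mo θ ≫ mo η := by
  cases k with
  | zero => exact WithInitial.starInitial.hom_ext _ _
  | succ k =>
    cases l with
    | zero => exact Fin.elim0 (θ 0)
    | succ l =>
      cases m with
      | zero => exact Fin.elim0 (η 0)
      | succ m => exact WithInitial.incl.map_comp (X := ⦋k⦌) (Y := ⦋l⦌) (Z := ⦋m⦌) (SimplexCategory.Hom.mk θ) (SimplexCategory.Hom.mk η)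

theorem idx_cardF (i : AΔ) : idx (cardF i) = i := by
  cases i with
  | star => rfl
  | of x => rfl

/-- The map of vertices of a monotone map of the sequence. -/
def simV {k l : ℕ} (θ : Fin k → Fin l) (v : Vx) : Vx :=
  Sum.elim (fun w => toLex (Sum.inl w)) (fun i => if h : i < k then vr (θ ⟨i, h⟩) else vr i) (ofLex v)

theorem simV_low {k l : ℕ} (θ : Fin k → Fin l) {v : Vx} (hv : v < vr 0) : simV θ v = v := by
  rcases hw : ofLex v with w | i
  · simp only [simV, hw, Sum.elim_inl]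
    exact hw ▸ toLex_ofLex v
  · exact absurd hv (by rw [show v = vr i from (toLex_ofLex v).symm.trans (congrArg toLex hw)]; exact not_lt_vr_zero i)

theorem simV_vr {k l : ℕ} (θ : Fin k → Fin l) {i : ℕ} (h : i < k) : simV θ (vr i) = vr (θ ⟨i, h⟩) :=
  dif_pos h

theorem simV_ok (A : Cx) {k l : ℕ} (θ : Fin k →o Fin l) (s : Finset Vx) (hs : (join A k).F s) :
    (join A l).F (s.image (simV θ)) ∧ MonotoneOn (simV θ) s := by
  obtain ⟨h1, h2⟩ := join_F.1 hs
  have hc : ∀ v ∈ s, v < vr 0 ∨ ∃ i, i < k ∧ v = vr i := fun v hv => by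
    by_cases hv' : v < vr 0
    · exact Or.inl hv'
    · obtain ⟨i, e⟩ : ∃ i, v = vr i := by
        by_contra hc
        exact hv' (lt_vr_zero v fun i e => hc ⟨i, e⟩)
      exact Or.inr ⟨i, h2 i (e ▸ hv), e⟩
  refine ⟨join_F.2 ⟨A.down (fun w hw => ?_) h1, fun j hj => ?_⟩, fun v hv w hw hvw => ?_⟩
  · obtain ⟨hw1, hw2⟩ := Finset.mem_filter.1 hw
    obtain ⟨v, hv, rfl⟩ := Finset.mem_image.1 hw1
    rcases hc v hv with h | ⟨i, hi, rfl⟩
    · rw [simV_low θ h]; exact Finset.mem_filter.2 ⟨hv, h⟩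
    · rw [simV_vr θ hi] at hw2; exact absurd hw2 (not_lt_vr_zero _)
  · obtain ⟨v, hv, e⟩ := Finset.mem_image.1 hj
    rcases hc v hv with h | ⟨i, hi, rfl⟩
    · rw [simV_low θ h] at e; exact absurd (e ▸ h) (not_lt_vr_zero j)
    · rw [simV_vr θ hi] at e
      obtain rfl : (θ ⟨i, hi⟩ : ℕ) = j := Sum.inr_injective (toLex_inj.1 e)
      exact (θ ⟨i, hi⟩).isLt
  · rcases hc v hv with h | ⟨i, hi, rfl⟩ <;> rcases hc w hw with h' | ⟨i', hi', rfl⟩
    · rw [simV_low θ h, simV_low θ h']; exact hvw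
    · rw [simV_low θ h, simV_vr θ hi']
      exact (h.trans_le (vr_le_iff.2 (Nat.zero_le _))).le
    · exact absurd (lt_of_le_of_lt hvw h') (not_lt_vr_zero i)
    · rw [simV_vr θ hi, simV_vr θ hi']
      exact vr_le_iff.2 (θ.monotone (show (⟨i, hi⟩ : Fin k) ≤ ⟨i', hi'⟩ from vr_le_iff.1 hvw))

/-- The joins with simplices, as a functor. -/
def joinF (A : Cx) : AΔ ⥤ Cx where
  obj i := join A (cardF i)
  map f := mkHom (simV (ordH f)) (simV_ok A (ordH f))
  map_id i := hom_ext fun v => by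
    rw [mkHom_f]
    rcases join_vert v with ⟨h, -⟩ | ⟨a, ha, e⟩
    · exact simV_low _ h
    · rw [e, simV_vr _ ha, ordH_id]; exact e.symm
  map_comp {i j l} f g := hom_ext fun v => by
    rw [comp_f, mkHom_f, mkHom_f, mkHom_f]
    rcases join_vert v with ⟨h, -⟩ | ⟨a, ha, e⟩
    · rw [simV_low (ordH f) h, simV_low _ h, simV_low _ h]
    · rw [e, simV_vr _ ha, simV_vr _ ha, simV_vr _ (Fin.isLt _), ordH_comp]
      rfl

/-- Joins with nothing are initial. -/
def empInitial : IsInitial (join emp 0) :=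
  IsInitial.ofUniqueHom
    (fun C => ⟨fun v => False.elim (by
        rcases join_vert v with ⟨-, h⟩ | ⟨i, hi, -⟩
        · exact Finset.singleton_ne_empty _ h
        · omega),
      fun {k g} hg => ⟨fun a => False.elim (by
          rcases join_vert (g a) with ⟨-, h⟩ | ⟨i, hi, -⟩
          · exact Finset.singleton_ne_empty _ h
          · omega), by
        rcases k with _ | k
        · simpa using C.empty
        · rcases join_vert (g 0) with ⟨-, h⟩ | ⟨i, hi, -⟩
          · exact absurd h (Finset.singleton_ne_empty _)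
          · omega⟩⟩)
    fun C φ => hom_ext fun v => by
      rcases join_vert v with ⟨-, h⟩ | ⟨i, hi, -⟩
      · exact absurd h (Finset.singleton_ne_empty _)
      · omega

variable (Z : AΔᵒᵖ ⥤ TopCat.{u})

/-- The simplices of a given size. -/
abbrev Cx.Simp (C : Cx) (k : ℕ) : Type := {g : Fin k → C.Vert // C.IsSimp g}

/-- Composition with a monotone map. -/
def Cx.Simp.comp {C : Cx} {k l : ℕ} (g : C.Simp l) (θ : Fin k →o Fin l) : C.Simp k := ⟨g.1 ∘ θ, g.2.comp θ⟩

/-- The space of maps from a complex to a diagram. -/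
def Sec (C : Cx) : TopCat.{u} :=
  TopCat.of {x : ∀ k : ℕ, C.Simp k → Z.obj (op (idx k)) //
    ∀ (k l : ℕ) (θ : Fin k →o Fin l) (g : C.Simp l), Z.map (mo θ).op (x l g) = x k (g.comp θ)}

variable {Z}

/-- A coordinate. -/
def coord {C : Cx} {k : ℕ} (g : C.Simp k) : Sec Z C ⟶ Z.obj (op (idx k)) :=
  TopCat.ofHom ⟨fun x => x.1 k g,
    (continuous_apply (A := fun _ : C.Simp k => Z.obj (op (idx k))) g).comp
      ((continuous_apply (A := fun k : ℕ => C.Simp k → Z.obj (op (idx k))) k).comp continuous_subtype_val)⟩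

theorem coord_map {C : Cx} {k l : ℕ} (θ : Fin k →o Fin l) (g : C.Simp l) :
    coord g ≫ Z.map (mo θ).op = coord (g.comp θ) :=
  TopCat.hom_ext (ContinuousMap.ext fun x => x.2 k l θ g)

/-- Maps to the space of maps from a complex. -/
def secLift {T : TopCat.{u}} {C : Cx} (f : ∀ (k : ℕ), C.Simp k → (T ⟶ Z.obj (op (idx k))))
    (h : ∀ (k l : ℕ) (θ : Fin k →o Fin l) (g : C.Simp l), f l g ≫ Z.map (mo θ).op = f k (g.comp θ)) :
    T ⟶ Sec Z C :=
  TopCat.ofHom ⟨fun t => ⟨fun k g => f k g t, fun k l θ g => ConcreteCategory.congr_hom (h k l θ g) t⟩,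
    Continuous.subtype_mk (continuous_pi fun k => continuous_pi fun g => (f k g).hom.continuous) _⟩

theorem secLift_coord {T : TopCat.{u}} {C : Cx} (f : ∀ (k : ℕ), C.Simp k → (T ⟶ Z.obj (op (idx k)))) (h)
    {k : ℕ} (g : C.Simp k) : secLift f h ≫ coord g = f k g := rfl

theorem sec_hom_ext {T : TopCat.{u}} {C : Cx} {a b : T ⟶ Sec Z C}
    (h : ∀ k (g : C.Simp k), a ≫ coord g = b ≫ coord g) : a = b :=
  TopCat.hom_ext (ContinuousMap.ext fun t => Subtype.ext (funext fun k => funext fun g =>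
    ConcreteCategory.congr_hom (h k g) t))

/-- Pushing a simplex forward. -/
def push {C D : Cx} (φ : C ⟶ D) {k : ℕ} (g : C.Simp k) : D.Simp k := ⟨φ.f ∘ g.1, φ.simp' g.2⟩

variable (Z)

/-- The spaces of maps from complexes, as a functor. -/
def secY : Cxᵒᵖ ⥤ TopCat.{u} where
  obj C := Sec Z C.unop
  map {C D} φ := secLift (fun k g => coord (push φ.unop g)) fun k l θ g => coord_map θ (push φ.unop g)
  map_id C := sec_hom_ext fun k g => rfl
  map_comp φ ψ := sec_hom_ext fun k g => rfl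

variable {Z}

theorem secY_map_coord {C D : Cx} (φ : C ⟶ D) {k : ℕ} (g : C.Simp k) :
    (secY Z).map φ.op ≫ coord g = coord (push φ g) := rfl

/-- The simplices of a simplex. -/
def toOrd {n k : ℕ} (g : (join emp n).Simp k) : Fin k →o Fin n :=
  have h : ∀ a, ∃ i, i < n ∧ (g.1 a).1 = vr i := fun a =>
    (join_vert (g.1 a)).resolve_left fun h => Finset.singleton_ne_empty _ h.2
  ⟨fun a => ⟨(h a).choose, (h a).choose_spec.1⟩, fun a b hab =>
    show (h a).choose ≤ (h b).choose from vr_le_iff.1 (by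
      rw [← (h a).choose_spec.2, ← (h b).choose_spec.2]; exact g.2.1 hab)⟩

theorem toOrd_spec {n k : ℕ} (g : (join emp n).Simp k) (a : Fin k) : (g.1 a).1 = vr (toOrd g a : ℕ) :=
  ((join_vert (g.1 a)).resolve_left fun h => Finset.singleton_ne_empty _ h.2).choose_spec.2

theorem toOrd_unique {n k : ℕ} (g : (join emp n).Simp k) (θ : Fin k →o Fin n)
    (h : ∀ a, (g.1 a).1 = vr (θ a : ℕ)) : toOrd g = θ :=
  OrderHom.ext _ _ (funext fun a => Fin.ext (Sum.inr_injective (toLex_inj.1 ((toOrd_spec g a).symm.trans (h a)))))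

/-- The fundamental simplex. -/
def fund (n : ℕ) : (join emp n).Simp n :=
  ⟨fun a => ⟨vr a, join_F.2 ⟨by rw [Finset.filter_singleton, if_neg (not_lt_vr_zero _)]; rfl,
      fun i hi => by
        obtain rfl : i = a := Sum.inr_injective (toLex_inj.1 (Finset.mem_singleton.1 hi))
        exact a.isLt⟩⟩,
    ⟨fun a b hab => vr_le_iff.2 hab, join_F.2 ⟨Finset.filter_eq_empty_iff.2 fun v hv => by
        obtain ⟨a, -, rfl⟩ := Finset.mem_image.1 hv
        exact not_lt_vr_zero _,
      fun i hi => by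
        obtain ⟨a, -, e⟩ := Finset.mem_image.1 hi
        obtain rfl : (a : ℕ) = i := Sum.inr_injective (toLex_inj.1 e)
        exact a.isLt⟩⟩⟩

variable (Z) in
/-- Maps from a simplex. -/
def simplexIso (n : ℕ) : Sec Z (join emp n) ≅ Z.obj (op (idx n)) where
  hom := coord (fund n)
  inv := secLift (fun k g => Z.map (mo (toOrd g)).op) fun k l θ g => by
    rw [← Z.map_comp, ← op_comp, ← mo_comp, toOrd_unique (g.comp θ) ((toOrd g).comp θ) fun a => toOrd_spec g (θ a)]
  hom_inv_id := sec_hom_ext fun k g => by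
    rw [Category.assoc, secLift_coord, coord_map, Category.id_comp]
    refine congrArg coord (Subtype.ext (funext fun a => Subtype.ext ?_))
    exact (toOrd_spec g a).symm
  inv_hom_id := by
    rw [secLift_coord, toOrd_unique (fund n) OrderHom.id (fun a => rfl), mo_id, op_id, Z.map_id]

variable (Z)

/-- The simplices as a diagram of complexes. -/
abbrev simp0 : AΔᵒᵖ ⥤ Cxᵒᵖ := (joinF emp).op

/-- The components of the comparison with the diagram. -/
def simpComp : ∀ i : AΔᵒᵖ, (simp0 ⋙ secY Z).obj i ≅ Z.obj i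
  | ⟨.star⟩ => simplexIso Z 0
  | ⟨.of ⟨p⟩⟩ => simplexIso Z (p + 1)

theorem mo_ordH_of {p q : ℕ} (f : (WithInitial.of ⦋p⦌ : AΔ) ⟶ WithInitial.of ⦋q⦌) :
    mo (k := p + 1) (l := q + 1) (ordH f) = f := rfl

/-- The diagram is the restriction to simplices. -/
def simpIso : simp0 ⋙ secY Z ≅ Z :=
  NatIso.ofComponents (simpComp Z) fun {i j} φ => by
    obtain ⟨i⟩ := i
    obtain ⟨j⟩ := j
    obtain ⟨f⟩ := φ
    have key : ∀ (k l : ℕ) (θ : Fin k →o Fin l) (c : join emp k ⟶ join emp l)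
        (hc : ∀ a, ((push c (fund k)).1 a).1 = vr (θ a : ℕ)),
        (secY Z).map c.op ≫ coord (fund k) = coord (fund l) ≫ Z.map (mo θ).op := fun k l θ c hc => by
      rw [secY_map_coord, coord_map]
      exact congrArg coord (Subtype.ext (funext fun a => Subtype.ext (hc a)))
    cases j with
    | star =>
      have e : ∀ (l : ℕ) (e0 : idx 0 ⟶ idx l), mo (⟨fun a => Fin.elim0 a, fun a => Fin.elim0 a⟩ : Fin 0 →o Fin l) = e0 :=
        fun l e0 => WithInitial.starInitial.hom_ext _ _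
      cases i with
      | star =>
        refine (key 0 0 ⟨fun a => Fin.elim0 a, fun a => Fin.elim0 a⟩ _ fun a => Fin.elim0 a).trans ?_
        rw [e 0 f]; rfl
      | of p =>
        obtain ⟨p⟩ := p
        refine (key 0 (p + 1) ⟨fun a => Fin.elim0 a, fun a => Fin.elim0 a⟩ _ fun a => Fin.elim0 a).trans ?_
        rw [e (p + 1) f]; rfl
    | of q =>
      cases i with
      | star => exact PEmpty.elim f
      | of p =>
        obtain ⟨p⟩ := p
        obtain ⟨q⟩ := q
        refine (key (q + 1) (p + 1) (ordH f) _ fun a => ?_).trans ?_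
        · exact (mkHom_f _ (simV_ok emp (ordH f)) _).trans (simV_vr _ a.isLt)
        · rw [mo_ordH_of]; rfl

end

end Groth.Agent.CohDesc82.Hyper
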