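import Groth.Agent.CohDesc82.Hyper.Restrict
import Groth.Agent.CohDesc82.Hyper.Contract

/-!
# Joins with discrete sets and simplices
-/

universe u

set_option autoImplicit false
set_option linter.unusedVariables false
set_option backward.isDefEq.respectTransparency false
set_option backward.isDefEq.respectTransparency.types false

open CategoryTheory CategoryTheory.Limits Opposite TopologicalSpace Simplicial

namespace Groth.Agent.CohDesc82.Hyper

noncomputable section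

theorem vl_lt {a b a' b' : ℕ} (h : a < a') : vl a b < vl a' b' := Sum.Lex.inl_lt_inl_iff.2 (Prod.Lex.toLex_lt_toLex.2 (Or.inl h))

theorem vl_le {a b b' : ℕ} (h : b ≤ b') : vl a b ≤ vl a b' :=
  Sum.Lex.inl_le_inl_iff.2 (Prod.Lex.toLex_le_toLex.2 (Or.inr ⟨rfl, h⟩))

theorem vl_inj {N b b' : ℕ} (h : vl N b = vl N b') : b = b' :=
  congrArg (fun w : ℕ ×ₗ ℕ => (ofLex w).2) (Sum.inl_injective (toLex_inj.1 h))

/-- The first coordinate in the square. -/
def blk (v : Vx) : ℕ := Sum.elim (fun w => (ofLex w).1) (fun _ => 0) (ofLex v)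

/-- The second coordinate in the square. -/
def pos (v : Vx) : ℕ := Sum.elim (fun w => (ofLex w).2) (fun i => i) (ofLex v)

theorem pos_vl (N b : ℕ) : pos (vl N b) = b := rfl

theorem not_vl_lt (N b : ℕ) : ¬ vl N b < vl N 0 := not_lt.2 (vl_le (Nat.zero_le b))

theorem not_vr_lt_vl (N i : ℕ) : ¬ vr i < vl N 0 := fun h => lt_asymm h (vl_lt_vr N 0 i)

variable (A : Cx) (N : ℕ)

theorem disc_F {j : ℕ} {s : Finset Vx} : (disc A N j).F s ↔ A.F (s.filter (· < vl N 0)) ∧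
    (∀ v ∈ s, ¬ v < vl N 0 → ∃ b, b < j ∧ v = vl N b) ∧
    ∀ v ∈ s, ∀ w ∈ s, ¬ v < vl N 0 → ¬ w < vl N 0 → w = v := by
  refine and_congr_right fun _ => ⟨fun h => ⟨fun v hv hv' => (h v (Finset.mem_filter.2 ⟨hv, hv'⟩)).1,
    fun v hv w hw hv' hw' => (h v (Finset.mem_filter.2 ⟨hv, hv'⟩)).2 w (Finset.mem_filter.2 ⟨hw, hw'⟩)⟩,
    fun h v hv => ⟨h.1 v (Finset.mem_filter.1 hv).1 (Finset.mem_filter.1 hv).2, fun w hw =>
      h.2 v (Finset.mem_filter.1 hv).1 w (Finset.mem_filter.1 hw).1 (Finset.mem_filter.1 hv).2 (Finset.mem_filter.1 hw).2⟩⟩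

theorem disc_mono {j l : ℕ} (h : j ≤ l) : Sub (disc A N j) (disc A N l) := fun s hs => by
  rw [disc_F] at hs ⊢
  exact ⟨hs.1, fun v hv hv' => let ⟨b, hb, e⟩ := hs.2.1 v hv hv'; ⟨b, hb.trans_le h, e⟩, hs.2.2⟩

theorem join_mono {B B' : Cx} (h : Sub B B') (k : ℕ) : Sub (join B k) (join B' k) := fun s hs => by
  rw [join_F] at hs ⊢
  exact ⟨h _ hs.1, hs.2⟩

variable {A N}

theorem disc_zero (hA : Below A (vl N 0)) : disc A N 0 = A := Cx.ext (funext fun s => propext (by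
  rw [disc_F]
  constructor
  · rintro ⟨h1, h2, -⟩
    rwa [Finset.filter_true_of_mem fun v hv => by_contra fun hv' => by
      obtain ⟨b, hb, -⟩ := h2 v hv hv'; omega] at h1
  · intro hs
    have hall : ∀ v ∈ s, v < vl N 0 := fun v hv => hA v (A.down (Finset.singleton_subset_iff.2 hv) hs)
    exact ⟨by rw [Finset.filter_true_of_mem hall]; exact hs, fun v hv hv' => absurd (hall v hv) hv',
      fun v hv w _ hv' => absurd (hall v hv) hv'⟩))

theorem disc_below (j : ℕ) : Below (disc A N j) (vl (N + 1) 0) := fun v hv => by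
  by_cases h : v < vl N 0
  · exact h.trans (vl_lt (Nat.lt_succ_self N))
  · obtain ⟨b, -, rfl⟩ := ((disc_F A N).1 hv).2.1 v (Finset.mem_singleton_self v) h
    exact vl_lt (Nat.lt_succ_self N)

theorem disc_fin (hA : Fin' A) (j : ℕ) : Fin' (disc A N j) := by
  obtain ⟨V, hV⟩ := hA
  refine ⟨V ∪ (Finset.range j).image (vl N), fun t ht v hv => ?_⟩
  obtain ⟨h1, h2, -⟩ := (disc_F A N).1 ht
  by_cases h : v < vl N 0
  · exact Finset.mem_union_left _ (hV _ h1 (Finset.mem_filter.2 ⟨hv, h⟩))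
  · obtain ⟨b, hb, rfl⟩ := h2 v hv h
    exact Finset.mem_union_right _ (Finset.mem_image.2 ⟨b, Finset.mem_range.2 hb, rfl⟩)

theorem join_fin (hA : Fin' A) (k : ℕ) : Fin' (join A k) := by
  obtain ⟨V, hV⟩ := hA
  refine ⟨V ∪ (Finset.range k).image vr, fun t ht v hv => ?_⟩
  obtain ⟨h1, h2⟩ := join_F.1 ht
  by_cases h : v < vr 0
  · exact Finset.mem_union_left _ (hV _ h1 (Finset.mem_filter.2 ⟨hv, h⟩))
  · obtain ⟨i, rfl⟩ : ∃ i, v = vr i := by
      by_contra hc
      exact h (lt_vr_zero v fun i e => hc ⟨i, e⟩)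
    exact Finset.mem_union_right _ (Finset.mem_image.2 ⟨i, Finset.mem_range.2 (h2 i hv), rfl⟩)

/-- The three kinds of vertices. -/
theorem vert_cases {j k : ℕ} {s : Finset Vx} (hs : (join (disc A N j) k).F s) {v : Vx} (hv : v ∈ s) :
    v < vl N 0 ∨ (∃ b, b < j ∧ v = vl N b) ∨ ∃ i, i < k ∧ v = vr i := by
  obtain ⟨h1, h2⟩ := join_F.1 hs
  by_cases h0 : v < vr 0
  · by_cases h : v < vl N 0
    · exact Or.inl h
    · exact Or.inr (Or.inl (((disc_F A N).1 h1).2.1 v (Finset.mem_filter.2 ⟨hv, h0⟩) h))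
  · obtain ⟨i, rfl⟩ : ∃ i, v = vr i := by
      by_contra hc
      exact h0 (lt_vr_zero v fun i e => hc ⟨i, e⟩)
    exact Or.inr (Or.inr ⟨i, h2 i hv, rfl⟩)

theorem points_eq {j k : ℕ} {s : Finset Vx} (hs : (join (disc A N j) k).F s) {b b' : ℕ}
    (h : vl N b ∈ s) (h' : vl N b' ∈ s) : b = b' :=
  vl_inj (((disc_F A N).1 (join_F.1 hs).1).2.2 _ (Finset.mem_filter.2 ⟨h', vl_lt_vr _ _ _⟩)
    _ (Finset.mem_filter.2 ⟨h, vl_lt_vr _ _ _⟩) (not_vl_lt N b') (not_vl_lt N b))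

/-- Maps of joins given blockwise. -/
structure BlockMap (N j k : ℕ) (l m : ℕ) where
  /-- the map of vertices -/
  φ : Vx → Vx
  low : ∀ v, v < vl N 0 → φ v = v
  point : ∀ b, b < j → ∃ b', b' < l ∧ φ (vl N b) = vl N b'
  simp_ : ∀ i, i < k → (∃ b', b' < l ∧ φ (vr i) = vl N b') ∨ ∃ i', i' < m ∧ φ (vr i) = vr i'
  mono : ∀ i i', i ≤ i' → i' < k → φ (vr i) ≤ φ (vr i')
  join' : ∀ b i, b < j → i < k → φ (vl N b) ≤ φ (vr i)
  one : ∀ b i b₁ b₂, b < j → i < k → φ (vl N b) = vl N b₁ → φ (vr i) = vl N b₂ → b₁ = b₂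
  one' : ∀ i i' b₁ b₂, i < k → i' < k → φ (vr i) = vl N b₁ → φ (vr i') = vl N b₂ → b₁ = b₂

theorem BlockMap.ok {j k l m : ℕ} (M : BlockMap N j k l m) (s : Finset Vx) (hs : (join (disc A N j) k).F s) :
    (join (disc A N l) m).F (s.image M.φ) ∧ MonotoneOn M.φ s := by
  have hkind : ∀ v ∈ s, (v < vl N 0 ∧ M.φ v = v) ∨ (∃ b', b' < l ∧ M.φ v = vl N b') ∨
      ∃ i', i' < m ∧ M.φ v = vr i' := fun v hv => by
    rcases vert_cases hs hv with h | ⟨b, hb, rfl⟩ | ⟨i, hi, rfl⟩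
    · exact Or.inl ⟨h, M.low v h⟩
    · exact Or.inr (Or.inl (M.point b hb))
    · exact Or.inr (M.simp_ i hi)
  have hvr : ∀ {v : Vx}, v < vl N 0 → v < vr 0 := fun h => h.trans (vl_lt_vr _ _ _)
  have hpre : ∀ v ∈ s, ∀ b', M.φ v = vl N b' → (∃ b, b < j ∧ v = vl N b) ∨ ∃ i, i < k ∧ v = vr i := fun v hv b' e => by
    rcases vert_cases hs hv with h | h | h
    · exact absurd ((M.low v h).symm.trans e ▸ h) (not_vl_lt N b')
    · exact Or.inl h
    · exact Or.inr h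
  refine ⟨join_F.2 ⟨(disc_F A N).2 ⟨?_, fun w hw hw' => ?_, fun w hw w' hw' hwl hwl' => ?_⟩, fun i hi => ?_⟩,
    fun v hv w hw hvw => ?_⟩
  · refine A.down (fun w hw => ?_) ((disc_F A N).1 (join_F.1 hs).1).1
    obtain ⟨hw1, hw2⟩ := Finset.mem_filter.1 hw
    obtain ⟨v, hv, rfl⟩ := Finset.mem_image.1 (Finset.mem_filter.1 hw1).1
    rcases hkind v hv with ⟨h, e⟩ | ⟨b', -, e⟩ | ⟨i', -, e⟩
    · rw [e]; exact Finset.mem_filter.2 ⟨Finset.mem_filter.2 ⟨hv, hvr h⟩, h⟩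
    · rw [e] at hw2; exact absurd hw2 (not_vl_lt N b')
    · rw [e] at hw2; exact absurd hw2 (not_vr_lt_vl N i')
  · obtain ⟨hw1, hw0⟩ := Finset.mem_filter.1 hw
    obtain ⟨v, hv, rfl⟩ := Finset.mem_image.1 hw1
    rcases hkind v hv with ⟨h, e⟩ | h | ⟨i', -, e⟩
    · rw [e] at hw'; exact absurd h hw'
    · exact h
    · rw [e] at hw0; exact absurd hw0 (not_lt_vr_zero i')
  · obtain ⟨hw1, hw0⟩ := Finset.mem_filter.1 hw
    obtain ⟨hw1', hw0'⟩ := Finset.mem_filter.1 hw'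
    obtain ⟨v, hv, rfl⟩ := Finset.mem_image.1 hw1
    obtain ⟨v', hv', rfl⟩ := Finset.mem_image.1 hw1'
    obtain ⟨b₁, -, e₁⟩ : ∃ b', b' < l ∧ M.φ v = vl N b' := by
      rcases hkind v hv with ⟨h, e⟩ | h | ⟨i', -, e⟩
      · rw [e] at hwl; exact absurd h hwl
      · exact h
      · rw [e] at hw0; exact absurd hw0 (not_lt_vr_zero i')
    obtain ⟨b₂, -, e₂⟩ : ∃ b', b' < l ∧ M.φ v' = vl N b' := by
      rcases hkind v' hv' with ⟨h, e⟩ | h | ⟨i', -, e⟩
      · rw [e] at hwl'; exact absurd h hwl'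
      · exact h
      · rw [e] at hw0'; exact absurd hw0' (not_lt_vr_zero i')
    rw [e₁, e₂]
    congr
    rcases hpre v hv b₁ e₁ with ⟨b, hb, rfl⟩ | ⟨i, hi, rfl⟩ <;>
      rcases hpre v' hv' b₂ e₂ with ⟨b', hb', rfl⟩ | ⟨i', hi', rfl⟩
    · obtain rfl := points_eq hs hv hv'
      exact vl_inj (e₂.symm.trans e₁)
    · exact (M.one b i' b₁ b₂ hb hi' e₁ e₂).symm
    · exact M.one b' i b₂ b₁ hb' hi e₂ e₁
    · exact (M.one' i i' b₁ b₂ hi hi' e₁ e₂).symm
  · obtain ⟨v, hv, e⟩ := Finset.mem_image.1 hi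
    rcases hkind v hv with ⟨h, e'⟩ | ⟨b', -, e'⟩ | ⟨i', hi', e'⟩
    · rw [e'] at e; exact absurd (e ▸ hvr h) (not_lt_vr_zero i)
    · rw [e'] at e; exact absurd (e ▸ vl_lt_vr N b' 0) (not_lt_vr_zero i)
    · rw [e'] at e
      obtain rfl : i' = i := Sum.inr_injective (toLex_inj.1 e)
      exact hi'
  · rcases vert_cases hs hv with h | ⟨b, hb, rfl⟩ | ⟨i, hi, rfl⟩ <;>
      rcases vert_cases hs hw with h' | ⟨b', hb', rfl⟩ | ⟨i', hi', rfl⟩
    · rw [M.low v h, M.low w h']; exact hvw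
    · obtain ⟨b'', -, e⟩ := M.point b' hb'
      rw [M.low v h, e]; exact h.le.trans (vl_le (Nat.zero_le _))
    · rw [M.low v h]
      rcases M.simp_ i' hi' with ⟨b'', -, e⟩ | ⟨i'', -, e⟩ <;> rw [e]
      · exact h.le.trans (vl_le (Nat.zero_le _))
      · exact (hvr h).le.trans (vr_le_iff.2 (Nat.zero_le _))
    · exact absurd (hvw.trans_lt h') (not_vl_lt N b)
    · obtain rfl := points_eq hs hv hw
      exact le_rfl
    · exact M.join' b i' hb hi'
    · exact absurd (hvw.trans_lt h') (not_vr_lt_vl N i)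
    · exact absurd (hvw.trans_lt (vl_lt_vr N b' i)) (lt_irrefl _)
    · exact M.mono i i' (vr_le_iff.1 hvw) hi'

/-- The simplicial map of a blockwise map. -/
def BlockMap.hom {j k l m : ℕ} (M : BlockMap N j k l m) : join (disc A N j) k ⟶ join (disc A N l) m :=
  mkHom M.φ M.ok

variable (N) in
/-- The map of vertices of a map on the points and a map on the sequence. -/
def biV {j k l m : ℕ} (α : Fin j → Fin l) (β : Fin k → Fin m) (v : Vx) : Vx :=
  if v < vr 0 then (if v < vl N 0 then v else if h : pos v < j then vl N (α ⟨pos v, h⟩) else v) else simV β v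

theorem biV_low {j k l m : ℕ} (α : Fin j → Fin l) (β : Fin k → Fin m) {v : Vx} (h : v < vl N 0) :
    biV N α β v = v := by rw [biV, if_pos (h.trans (vl_lt_vr _ _ _)), if_pos h]

theorem biV_point {j k l m : ℕ} (α : Fin j → Fin l) (β : Fin k → Fin m) {b : ℕ} (h : b < j) :
    biV N α β (vl N b) = vl N (α ⟨b, h⟩) := by
  rw [biV, if_pos (vl_lt_vr _ _ _), if_neg (not_vl_lt N b)]
  exact dif_pos h

theorem biV_seq {j k l m : ℕ} (α : Fin j → Fin l) (β : Fin k → Fin m) {i : ℕ} (h : i < k) :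
    biV N α β (vr i) = vr (β ⟨i, h⟩) := by
  rw [biV, if_neg (not_lt_vr_zero i), simV_vr β h]

theorem vl_ne_vr (a b i : ℕ) : vl a b ≠ vr i := (vl_lt_vr a b i).ne

variable (N) in
/-- Maps given on the points and on the sequence. -/
def biM {j k l m : ℕ} (α : Fin j → Fin l) (β : Fin k →o Fin m) : BlockMap N j k l m where
  φ := biV N α β
  low _ h := biV_low α β h
  point b h := ⟨α ⟨b, h⟩, Fin.isLt _, biV_point α β h⟩
  simp_ i h := Or.inr ⟨β ⟨i, h⟩, Fin.isLt _, biV_seq α β h⟩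
  mono i i' h h' := by
    rw [biV_seq α β (h.trans_lt h'), biV_seq α β h']
    exact vr_le_iff.2 (β.monotone (show (⟨i, h.trans_lt h'⟩ : Fin k) ≤ ⟨i', h'⟩ from h))
  join' b i hb hi := by rw [biV_point α β hb, biV_seq α β hi]; exact (vl_lt_vr _ _ _).le
  one b i b₁ b₂ hb hi _ e := by rw [biV_seq α β hi] at e; exact absurd e.symm (vl_ne_vr _ _ _)
  one' i i' b₁ b₂ hi hi' e _ := by rw [biV_seq α β hi] at e; exact absurd e.symm (vl_ne_vr _ _ _)

variable (A N)

/-- Two blocks, as a diagram. -/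
def biF : AΔᵒᵖ × AΔᵒᵖ ⥤ Cxᵒᵖ where
  obj a := op (join (disc A N (cardF a.1.unop)) (cardF a.2.unop))
  map f := (biM N (ordH f.1.unop) (ordH f.2.unop)).hom.op
  map_id a := Quiver.Hom.unop_inj (hom_ext fun v => by
    show biV N (ordH (𝟙 a.1.unop)) (ordH (𝟙 a.2.unop)) v.1 = v.1
    rw [ordH_id, ordH_id]
    rcases vert_cases v.2 (Finset.mem_singleton_self _) with h | ⟨b, hb, e⟩ | ⟨i, hi, e⟩
    · exact biV_low _ _ h
    · rw [e, biV_point _ _ hb]; rfl
    · rw [e, biV_seq _ _ hi]; rfl)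
  map_comp {a b c} f g := Quiver.Hom.unop_inj (hom_ext fun v => by
    show biV N (ordH (g.1.unop ≫ f.1.unop)) (ordH (g.2.unop ≫ f.2.unop)) v.1 =
      biV N (ordH f.1.unop) (ordH f.2.unop) (biV N (ordH g.1.unop) (ordH g.2.unop) v.1)
    rw [ordH_comp, ordH_comp]
    rcases vert_cases v.2 (Finset.mem_singleton_self _) with h | ⟨b', hb, e⟩ | ⟨i, hi, e⟩
    · rw [biV_low _ _ h, biV_low _ _ h, biV_low _ _ h]
    · rw [e, biV_point _ _ hb, biV_point _ _ hb, biV_point _ _ (Fin.isLt _)]; rfl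
    · rw [e, biV_seq _ _ hi, biV_seq _ _ hi, biV_seq _ _ (Fin.isLt _)]; rfl)

theorem slice₂F_biF (i : AΔ) : slice₂F (biF A N) (op i) = (joinF (disc A N (cardF i))).op :=
  CategoryTheory.Functor.ext (fun j => rfl) fun j j' f => by
    rw [eqToHom_refl, eqToHom_refl, Category.comp_id, Category.id_comp]
    refine Quiver.Hom.unop_inj (hom_ext fun v => ?_)
    show biV N (ordH (𝟙 i)) (ordH f.unop) v.1 = simV (ordH f.unop) v.1
    rw [ordH_id]
    rcases vert_cases v.2 (Finset.mem_singleton_self _) with h | ⟨b, hb, e⟩ | ⟨i', hi, e⟩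
    · rw [biV_low _ _ h, simV_low _ (h.trans (vl_lt_vr _ _ _))]
    · rw [e, biV_point _ _ hb, simV_low _ (vl_lt_vr _ _ _)]; rfl
    · rw [e, biV_seq _ _ hi, simV_vr _ hi]

variable {N} in
/-- The map of vertices which prepends the point. -/
def prepV (v : Vx) : Vx :=
  Sum.elim (fun w => toLex (Sum.inl w)) (fun i => if i = 0 then vl N 0 else vr (i - 1)) (ofLex v)

theorem prepV_low {v : Vx} (h : v < vr 0) : prepV (N := N) v = v := by
  rcases hw : ofLex v with w | i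
  · simp only [prepV, hw, Sum.elim_inl]
    exact (congrArg toLex hw).symm.trans (toLex_ofLex v)
  · exact absurd h (by rw [show v = vr i from (toLex_ofLex v).symm.trans (congrArg toLex hw)]; exact not_lt_vr_zero i)

theorem prepV_zero : prepV (N := N) (vr 0) = vl N 0 := rfl

theorem prepV_succ (i : ℕ) : prepV (N := N) (vr (i + 1)) = vr i := rfl

/-- Prepending the point. -/
def prepM (m : ℕ) : BlockMap N 1 (m + 1) 1 m where
  φ := prepV (N := N)
  low v h := prepV_low N (h.trans (vl_lt_vr _ _ _))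
  point b hb := ⟨0, Nat.one_pos, by rw [prepV_low N (vl_lt_vr _ _ _), show b = 0 by omega]⟩
  simp_ i hi := by
    rcases i with _ | i
    · exact Or.inl ⟨0, Nat.one_pos, prepV_zero N⟩
    · exact Or.inr ⟨i, by omega, prepV_succ N i⟩
  mono i i' h h' := by
    rcases i with _ | i <;> rcases i' with _ | i'
    · exact le_rfl
    · rw [prepV_zero, prepV_succ]; exact (vl_lt_vr _ _ _).le
    · omega
    · rw [prepV_succ, prepV_succ]; exact vr_le_iff.2 (Nat.le_of_succ_le_succ h)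
  join' b i hb hi := by
    rw [prepV_low N (vl_lt_vr _ _ _), show b = 0 by omega]
    rcases i with _ | i
    · rw [prepV_zero]
    · rw [prepV_succ]; exact (vl_lt_vr _ _ _).le
  one b i b₁ b₂ hb hi e e' := by
    rw [prepV_low N (vl_lt_vr _ _ _)] at e
    obtain rfl : b = 0 := by omega
    rcases i with _ | i
    · rw [prepV_zero] at e'
      exact (vl_inj e).symm.trans (vl_inj e')
    · rw [prepV_succ] at e'
      exact absurd e'.symm (vl_ne_vr _ _ _)
  one' i i' b₁ b₂ hi hi' e e' := by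
    rcases i with _ | i
    · rcases i' with _ | i'
      · rw [prepV_zero] at e e'
        exact (vl_inj e).symm.trans (vl_inj e')
      · rw [prepV_succ] at e'
        exact absurd e'.symm (vl_ne_vr _ _ _)
    · rw [prepV_succ] at e
      exact absurd e.symm (vl_ne_vr _ _ _)

theorem prep_vr_zero (m : ℕ) : (prepM N m).φ (vr 0) = vl N 0 := prepV_zero N

theorem prep_vr_succ (m i : ℕ) : (prepM N m).φ (vr (i + 1)) = vr i := prepV_succ N i

theorem prep_lt (m : ℕ) {v : Vx} (h : v < vr 0) : (prepM N m).φ v = v := prepV_low N h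

theorem cardF_idx (k : ℕ) : cardF (idx k) = k := by cases k <;> rfl

/-- The contraction. -/
def contr : ∀ m : ℕ, (joinF (disc A N 1)).op.obj (op (idx m)) ⟶ (joinF (disc A N 1)).op.obj (op (idx (m + 1)))
  | 0 => ((prepM N 0).hom : join (disc A N 1) 1 ⟶ join (disc A N 1) 0).op
  | m + 1 => ((prepM N (m + 1)).hom : join (disc A N 1) (m + 2) ⟶ join (disc A N 1) (m + 1)).op

variable {Z : AΔᵒᵖ ⥤ TopCat.{u}} {T : Cxᵒᵖ} (hT : IsTerminal T)

/-- Joins with a point followed by simplices are contractible. -/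
theorem exact_cone (K : CochainComplex (Sh (secY Z)) ℤ) (d : ℤ) (U : Opens ((secY Z).obj T)) :
    (lvlBi K d (lvlT hT U (joinF (disc A N 1)).op)).Exact := by
  refine lvlBi_exact_of_contraction K d _ _ (fun f => mem_levT hT U ((joinF (disc A N 1)).op.map f)) (contr A N) (fun m => mem_levT hT U _) ?_ (fun p => ?_) ?_ (fun p k => ?_)
  · refine Quiver.Hom.unop_inj (hom_ext fun v => ?_)
    show (prepM N 0).φ (simV _ v.1) = v.1
    rcases join_vert v with ⟨h, -⟩ | ⟨i, hi, -⟩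
    · rw [simV_low _ h, prep_lt N 0 h]
    · exact absurd hi (Nat.not_lt_zero i)
  · refine Quiver.Hom.unop_inj (hom_ext fun v => ?_)
    show (prepM N (p + 1)).φ (simV (SimplexCategory.δ (0 : Fin (p + 2))).toOrderHom v.1) = v.1
    rcases join_vert v with ⟨h, -⟩ | ⟨i, hi, e⟩
    · rw [simV_low _ h, prep_lt N _ h]
    · rw [e, simV_vr _ (show i < p + 1 from hi)]
      show (prepM N (p + 1)).φ (vr (Fin.succAbove (0 : Fin (p + 2)) ⟨i, hi⟩ : ℕ)) = _
      rw [Fin.zero_succAbove, Fin.val_succ, prep_vr_succ]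
  · refine Quiver.Hom.unop_inj (hom_ext fun v => ?_)
    show (prepM N 1).φ (simV (SimplexCategory.δ (1 : Fin 2)).toOrderHom v.1) = simV _ ((prepM N 0).φ v.1)
    rcases join_vert v with ⟨h, -⟩ | ⟨i, hi, e⟩
    · rw [simV_low _ h, prep_lt N _ h, prep_lt N _ h, simV_low _ h]
    · obtain rfl : i = 0 := by have : i < 1 := hi; omega
      rw [e, simV_vr _ (show 0 < 1 from Nat.one_pos)]
      show (prepM N 1).φ (vr (Fin.succAbove (1 : Fin 2) (0 : Fin 1) : ℕ)) = _
      rw [show ((Fin.succAbove (1 : Fin 2) (0 : Fin 1)) : ℕ) = 0 from rfl, prep_vr_zero, prep_vr_zero,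
        simV_low _ (vl_lt_vr _ _ _)]
  · refine Quiver.Hom.unop_inj (hom_ext fun v => ?_)
    show (prepM N (p + 2)).φ (simV (SimplexCategory.δ k.succ).toOrderHom v.1) =
      simV (SimplexCategory.δ k).toOrderHom ((prepM N (p + 1)).φ v.1)
    rcases join_vert v with ⟨h, -⟩ | ⟨i, hi, e⟩
    · rw [simV_low _ h, prep_lt N _ h, prep_lt N _ h, simV_low _ h]
    · rw [e, simV_vr _ (show i < p + 2 from hi)]
      show (prepM N (p + 2)).φ (vr (Fin.succAbove k.succ ⟨i, hi⟩ : ℕ)) = _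
      rcases i with _ | i
      · rw [show (⟨0, hi⟩ : Fin (p + 2)) = 0 from rfl, Fin.succ_succAbove_zero, Fin.val_zero, prep_vr_zero,
          prep_vr_zero, simV_low _ (vl_lt_vr _ _ _)]
      · rw [show (⟨i + 1, hi⟩ : Fin (p + 2)) = Fin.succ ⟨i, Nat.lt_of_succ_lt_succ hi⟩ from rfl,
          Fin.succ_succAbove_succ, Fin.val_succ, prep_vr_succ, prep_vr_succ,
          simV_vr _ (show i < p + 1 from Nat.lt_of_succ_lt_succ hi)]
        rfl

end

end Groth.Agent.CohDesc82.Hyper
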