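import Groth.Agent.CohDesc82.Hyper.Join
import Groth.Agent.CohDesc82.Models

/-!
# Cohomological descent for hypercoverings
-/

universe u

set_option autoImplicit false
set_option linter.unusedVariables false
set_option backward.isDefEq.respectTransparency false
set_option backward.isDefEq.respectTransparency.types false

open CategoryTheory CategoryTheory.Limits Opposite TopologicalSpace Simplicial

namespace Groth.Agent.CohDesc82.Hyper

noncomputable section

variable {Z : AΔᵒᵖ ⥤ TopCat.{u}} (A : Cx) (N n : ℕ)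

/-- Moving the single point to one of several. -/
abbrev ptTo (j : ℕ) (k : Fin j) : join (disc A N 1) n ⟶ join (disc A N j) n :=
  (biM N (fun _ : Fin 1 => k) (OrderHom.id : Fin n →o Fin n)).hom

/-- Moving all points to one. -/
abbrev collapse (j : ℕ) : join (disc A N j) n ⟶ join (disc A N 1) n :=
  (biM N (fun _ : Fin j => (0 : Fin 1)) (OrderHom.id : Fin n →o Fin n)).hom

theorem base_sub (j : ℕ) : Sub (join (disc A N 0) n) (join (disc A N j) n) :=
  join_mono (disc_mono A N (Nat.zero_le j)) n

variable {A N n}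

theorem base_ptTo (j : ℕ) (k : Fin j) : incl (base_sub A N n 1) ≫ ptTo A N n j k = incl (base_sub A N n j) :=
  hom_ext fun v => by
    show biV N (fun _ : Fin 1 => k) (OrderHom.id : Fin n →o Fin n) v.1 = v.1
    rcases vert_cases v.2 (Finset.mem_singleton_self _) with h | ⟨b, hb, -⟩ | ⟨i, hi, e⟩
    · exact biV_low _ _ h
    · exact absurd hb (Nat.not_lt_zero b)
    · rw [e, biV_seq _ _ hi]; rfl

/-- A point of a simplex. -/
def kOf {q k : ℕ} (g : (join (disc A N (q + 1)) n).Simp k) : Fin (q + 1) :=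
  open Classical in if h : ∃ b, b < q + 1 ∧ vl N b ∈ img' g then ⟨h.choose, h.choose_spec.1⟩ else 0

theorem kOf_eq {q k : ℕ} (g : (join (disc A N (q + 1)) n).Simp k) {b : ℕ} (hb : b < q + 1)
    (h : vl N b ∈ img' g) : kOf g = ⟨b, hb⟩ := by
  have hex : ∃ b, b < q + 1 ∧ vl N b ∈ img' g := ⟨b, hb, h⟩
  rw [kOf, dif_pos hex]
  exact Fin.ext (points_eq (img'_mem g) hex.choose_spec.2 h)

theorem push_ptTo_collapse {q k : ℕ} (g : (join (disc A N (q + 1)) n).Simp k) :
    push (ptTo A N n (q + 1) (kOf g)) (push (collapse A N n (q + 1)) g) = g :=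
  Subtype.ext (funext fun a => Subtype.ext (by
    show biV N (fun _ : Fin 1 => kOf g) (OrderHom.id : Fin n →o Fin n) (biV N (fun _ : Fin (q + 1) => (0 : Fin 1)) (OrderHom.id : Fin n →o Fin n) (g.1 a).1) = (g.1 a).1
    have hmem : (g.1 a).1 ∈ img' g := Finset.mem_image.2 ⟨a, Finset.mem_univ _, rfl⟩
    rcases vert_cases (img'_mem g) hmem with h | ⟨b, hb, e⟩ | ⟨i, hi, e⟩
    · rw [biV_low _ _ h, biV_low _ _ h]
    · rw [e, biV_point _ _ hb, biV_point _ _ (Fin.isLt _), kOf_eq g hb (e ▸ hmem)]
    · rw [e, biV_seq _ _ hi]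
      exact biV_seq _ _ hi))

theorem collapse_ptTo (j : ℕ) (k : Fin j) : ptTo A N n j k ≫ collapse A N n j = 𝟙 _ := hom_ext fun v => by
  show biV N (fun _ : Fin j => (0 : Fin 1)) (OrderHom.id : Fin n →o Fin n) (biV N (fun _ : Fin 1 => k) (OrderHom.id : Fin n →o Fin n) v.1) = v.1
  rcases vert_cases v.2 (Finset.mem_singleton_self _) with h | ⟨b, hb, e⟩ | ⟨i, hi, e⟩
  · rw [biV_low _ _ h, biV_low _ _ h]
  · rw [e, biV_point _ _ hb, biV_point _ _ (Fin.isLt _)]
    exact congrArg (vl N) (by show (0 : ℕ) = b; omega)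
  · rw [e, biV_seq _ _ hi]
    exact biV_seq _ _ hi

theorem push_comp {C D E : Cx} (φ : C ⟶ D) (ψ : D ⟶ E) {k : ℕ} (g : C.Simp k) :
    push (φ ≫ ψ) g = push ψ (push φ g) := rfl

theorem push_id {C : Cx} {k : ℕ} (g : C.Simp k) : push (𝟙 C) g = g := rfl

variable (Z A N n)

/-- The map forgetting the point. -/
abbrev rA : Sec Z (join (disc A N 1) n) ⟶ Sec Z (join (disc A N 0) n) := (secY Z).map (incl (base_sub A N n 1)).op

/-- The fibre power at a level. -/
abbrev WP (q : ℕ) : TopCat.{u} :=
  widePullback (Sec Z (join (disc A N 0) n)) (fun _ : Fin (q + 1) => Sec Z (join (disc A N 1) n)) (fun _ => rA Z A N n)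

/-- Simplices from families of cones. -/
def glueFam (q : ℕ) : WP Z A N n q ⟶ Sec Z (join (disc A N (q + 1)) n) :=
  secLift (fun k g => WidePullback.π (fun _ : Fin (q + 1) => rA Z A N n) (kOf g) ≫ coord (push (collapse A N n (q + 1)) g))
    fun k l θ g => by
    rw [Category.assoc, coord_map]
    show WidePullback.π (fun _ : Fin (q + 1) => rA Z A N n) (kOf g) ≫ coord (push (collapse A N n (q + 1)) (g.comp θ)) = _
    by_cases h : ∃ b, b < q + 1 ∧ vl N b ∈ img' (g.comp θ)
    · obtain ⟨b, hb, hmem⟩ := h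
      rw [kOf_eq g hb (img'_comp g θ hmem), kOf_eq (g.comp θ) hb hmem]
    · have h0 : (join (disc A N 0) n).F (img' (g.comp θ)) := by
        obtain ⟨h1, h2⟩ := join_F.1 (img'_mem (g.comp θ))
        obtain ⟨h3, h4, h5⟩ := (disc_F A N).1 h1
        refine join_F.2 ⟨(disc_F A N).2 ⟨h3, fun v hv hv' => ?_, h5⟩, h2⟩
        obtain ⟨b, hb, rfl⟩ := h4 v hv hv'
        exact absurd ⟨b, hb, (Finset.mem_filter.1 hv).1⟩ h
      let g0 : (join (disc A N 0) n).Simp k := corestr (g.comp θ) h0
      have e : push (collapse A N n (q + 1)) (g.comp θ) = push (incl (base_sub A N n 1)) g0 :=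
        Subtype.ext (funext fun a => Subtype.ext (by
          show biV N (fun _ : Fin (q + 1) => (0 : Fin 1)) (OrderHom.id : Fin n →o Fin n) ((g.comp θ).1 a).1 = ((g.comp θ).1 a).1
          have hmem : ((g.comp θ).1 a).1 ∈ img' (g.comp θ) := Finset.mem_image.2 ⟨a, Finset.mem_univ _, rfl⟩
          rcases vert_cases h0 hmem with h' | ⟨b, hb, -⟩ | ⟨i, hi, e⟩
          · exact biV_low _ _ h'
          · exact absurd hb (Nat.not_lt_zero b)
          · rw [e]; exact biV_seq _ _ hi))
      rw [e, ← secY_map_coord, ← Category.assoc, ← Category.assoc]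
      refine congrArg (· ≫ coord g0) ?_
      exact (WidePullback.π_arrow (fun _ : Fin (q + 1) => rA Z A N n) (kOf g)).trans
        (WidePullback.π_arrow (fun _ : Fin (q + 1) => rA Z A N n) (kOf (g.comp θ))).symm

theorem glueFam_ptTo (q : ℕ) (k : Fin (q + 1)) :
    glueFam Z A N n q ≫ (secY Z).map (ptTo A N n (q + 1) k).op = WidePullback.π (fun _ : Fin (q + 1) => rA Z A N n) k := by
  refine sec_hom_ext fun l g => ?_
  rw [Category.assoc, secY_map_coord]
  show WidePullback.π (fun _ : Fin (q + 1) => rA Z A N n) (kOf (push (ptTo A N n (q + 1) k) g)) ≫ coord (push (collapse A N n (q + 1))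
    (push (ptTo A N n (q + 1) k) g)) = _
  rw [← push_comp, collapse_ptTo, push_id]
  by_cases h : vl N 0 ∈ img' g
  · rw [kOf_eq (push (ptTo A N n (q + 1) k) g) k.isLt]
    obtain ⟨a, -, e⟩ := Finset.mem_image.1 h
    refine Finset.mem_image.2 ⟨a, Finset.mem_univ _, ?_⟩
    show biV N (fun _ : Fin 1 => k) (OrderHom.id : Fin n →o Fin n) (g.1 a).1 = _
    rw [show (g.1 a).1 = vl N 0 from e, biV_point _ _ Nat.one_pos]
  · have h0 : (join (disc A N 0) n).F (img' g) := by
      obtain ⟨h1, h2⟩ := join_F.1 (img'_mem g)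
      obtain ⟨h3, h4, h5⟩ := (disc_F A N).1 h1
      refine join_F.2 ⟨(disc_F A N).2 ⟨h3, fun v hv hv' => ?_, h5⟩, h2⟩
      obtain ⟨b, hb, rfl⟩ := h4 v hv hv'
      obtain rfl : b = 0 := by omega
      exact absurd (Finset.mem_filter.1 hv).1 h
    rw [← push_corestr (base_sub A N n 1) g h0, ← secY_map_coord, ← Category.assoc, ← Category.assoc]
    refine congrArg (· ≫ coord _) ?_
    exact (WidePullback.π_arrow (fun _ : Fin (q + 1) => rA Z A N n) _).trans
      (WidePullback.π_arrow (fun _ : Fin (q + 1) => rA Z A N n) _).symm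

theorem glueFam_base (q : ℕ) :
    glueFam Z A N n q ≫ (secY Z).map (incl (base_sub A N n (q + 1))).op =
      WidePullback.base (fun _ : Fin (q + 1) => rA Z A N n) := by
  rw [← base_ptTo (q + 1) 0, op_comp, (secY Z).map_comp, ← Category.assoc, glueFam_ptTo]
  exact WidePullback.π_arrow (fun _ : Fin (q + 1) => rA Z A N n) 0

/-- Maps from several cones are compatible families. -/
def famIso (q : ℕ) : Sec Z (join (disc A N (q + 1)) n) ≅ WP Z A N n q where
  hom := WidePullback.lift ((secY Z).map (incl (base_sub A N n (q + 1))).op)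
    (fun k => (secY Z).map (ptTo A N n (q + 1) k).op) fun k => by
      rw [← (secY Z).map_comp, ← op_comp, base_ptTo]
  inv := glueFam Z A N n q
  hom_inv_id := sec_hom_ext fun k g => by
    rw [Category.assoc, glueFam, secLift_coord, ← Category.assoc, WidePullback.lift_π, secY_map_coord,
      push_ptTo_collapse, Category.id_comp]
  inv_hom_id := WidePullback.hom_ext _ _ _
    (fun k => by rw [Category.assoc, WidePullback.lift_π, glueFam_ptTo, Category.id_comp])
    (by rw [Category.assoc, WidePullback.lift_base, glueFam_base, Category.id_comp])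

theorem famIso_π (q : ℕ) (k : Fin (q + 1)) :
    (famIso Z A N n q).hom ≫ WidePullback.π (fun _ : Fin (q + 1) => rA Z A N n) k =
      (secY Z).map (ptTo A N n (q + 1) k).op := WidePullback.lift_π _ _ _ _ _

theorem famIso_base (q : ℕ) :
    (famIso Z A N n q).hom ≫ WidePullback.base (fun _ : Fin (q + 1) => rA Z A N n) =
      (secY Z).map (incl (base_sub A N n (q + 1))).op := WidePullback.lift_base _ _ _ _

variable (i : AΔ)

/-- The slice of varying points at a fixed simplex. -/
abbrev ptSlice : AΔᵒᵖ ⥤ TopCat.{u} := slice₁F (biF A N) (op i) ⋙ secY Z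

/-- The components of the comparison. -/
def sliceComp : ∀ j : AΔᵒᵖ, (ptSlice Z A N i).obj j ≅ (nv (rA Z A N (cardF i))).obj j
  | ⟨.star⟩ => Iso.refl _
  | ⟨.of ⟨q⟩⟩ => famIso Z A N (cardF i) q

/-- The slices are nerves. -/
def sliceIso : ptSlice Z A N i ≅ nv (rA Z A N (cardF i)) :=
  NatIso.ofComponents (sliceComp Z A N i) fun {j j'} φ => by
    obtain ⟨j⟩ := j
    obtain ⟨j'⟩ := j'
    obtain ⟨φ⟩ := φ
    cases j' with
    | star =>
      cases j with
      | star =>
        refine (Category.comp_id _).trans (Eq.trans ?_ (Category.id_comp _).symm)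
        have e : φ = 𝟙 _ := WithInitial.starInitial.hom_ext _ _
        subst e
        exact ((ptSlice Z A N i).map_id _).trans ((nv (rA Z A N (cardF i))).map_id (op WithInitial.star)).symm
      | of q =>
        obtain ⟨q⟩ := q
        refine (Category.comp_id _).trans ?_
        have hb : (nv (rA Z A N (cardF i))).map (Quiver.Hom.op φ) =
            WidePullback.base (fun _ : Fin (q + 1) => rA Z A N (cardF i)) :=
          congrArg (nv (rA Z A N (cardF i))).map (hbot.hom_ext (Quiver.Hom.op φ) (hbot.from (op (WithInitial.of ⦋q⦌))))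
        show _ = (famIso Z A N (cardF i) q).hom ≫ _
        refine Eq.trans ?_ ((congrArg ((famIso Z A N (cardF i) q).hom ≫ ·) hb).trans
          (famIso_base Z A N (cardF i) q)).symm
        show (secY Z).map _ = (secY Z).map _
        refine congrArg (secY Z).map (Quiver.Hom.unop_inj (hom_ext fun v => ?_))
        show biV N _ (ordH (𝟙 i)) v.1 = v.1
        rw [ordH_id]
        rcases vert_cases v.2 (Finset.mem_singleton_self _) with h | ⟨b, hb, -⟩ | ⟨l, hl, e⟩
        · exact biV_low _ _ h
        · exact absurd hb (Nat.not_lt_zero b)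
        · rw [e]; exact biV_seq _ _ hl
    | of q' =>
      cases j with
      | star => exact PEmpty.elim φ
      | of q =>
        obtain ⟨q⟩ := q
        obtain ⟨q'⟩ := q'
        show _ ≫ (famIso Z A N (cardF i) q').hom = (famIso Z A N (cardF i) q).hom ≫ _
        refine WidePullback.hom_ext _ _ _ (fun k => ?_) ?_
        · refine (Category.assoc _ _ _).trans (((congrArg (_ ≫ ·) (famIso_π Z A N (cardF i) q' k))).trans ?_)
          refine Eq.trans ?_ ((Category.assoc _ _ _).trans (congrArg ((famIso Z A N (cardF i) q).hom ≫ ·)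
            (nv_map_π (rA Z A N (cardF i)) (WithInitial.down φ) k))).symm
          refine Eq.trans ?_ (famIso_π Z A N (cardF i) q _).symm
          show (secY Z).map _ ≫ _ = _
          refine ((secY Z).map_comp _ _).symm.trans (congrArg (secY Z).map (Quiver.Hom.unop_inj (hom_ext fun v => ?_)))
          show biV N (ordH φ) (ordH (𝟙 i)) (biV N (fun _ : Fin 1 => k) (OrderHom.id : Fin (cardF i) →o Fin (cardF i)) v.1) =
            biV N (fun _ : Fin 1 => (WithInitial.down φ).toOrderHom k) (OrderHom.id : Fin (cardF i) →o Fin (cardF i)) v.1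
          rw [ordH_id]
          rcases vert_cases v.2 (Finset.mem_singleton_self _) with h | ⟨b, hb, e⟩ | ⟨l, hl, e⟩
          · rw [biV_low _ _ h, biV_low _ _ h, biV_low _ _ h]
          · rw [e, biV_point _ _ hb, biV_point _ _ hb]
            exact biV_point _ _ (show (k : ℕ) < q' + 1 from k.isLt)
          · rw [e, biV_seq _ _ hl, biV_seq _ _ hl]
            exact biV_seq _ _ (Fin.isLt _)
        · refine (Category.assoc _ _ _).trans (((congrArg (_ ≫ ·) (famIso_base Z A N (cardF i) q'))).trans ?_)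
          refine Eq.trans ?_ ((Category.assoc _ _ _).trans (congrArg ((famIso Z A N (cardF i) q).hom ≫ ·)
            ((congrArg (_ ≫ ·) (show WidePullback.base _ = nvAug (rA Z A N (cardF i)) (op (WithInitial.of ⦋q'⦌)) from rfl)).trans
              (nv_aug (rA Z A N (cardF i)) (Quiver.Hom.op φ))))).symm
          refine Eq.trans ?_ (famIso_base Z A N (cardF i) q).symm
          show (secY Z).map _ ≫ _ = _
          refine ((secY Z).map_comp _ _).symm.trans (congrArg (secY Z).map (Quiver.Hom.unop_inj (hom_ext fun v => ?_)))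
          show biV N (ordH φ) (ordH (𝟙 i)) v.1 = v.1
          rw [ordH_id]
          rcases vert_cases v.2 (Finset.mem_singleton_self _) with h | ⟨b, hb, -⟩ | ⟨l, hl, e⟩
          · exact biV_low _ _ h
          · exact absurd hb (Nat.not_lt_zero b)
          · rw [e]; exact biV_seq _ _ hl

variable {Z A N}

theorem crit_ptSlice (hZ : MU Z) (hA : Fin' A) : Crit (ptSlice Z A N i) :=
  crit_of_iso (sliceIso Z A N i).symm
    (CD.of_ucd (ucd_incl_of_fin hZ (base_sub A N (cardF i) 1) (join_fin (disc_fin hA 1) _)))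

/-- The final index. -/
def hT0 : IsTerminal (simp0.obj B0) := terminalOpOfInitial empInitial

theorem exactAt_join (hZ : MU Z) (K : CochainComplex (Sh (secY Z)) ℤ) (d : ℤ) [K.IsStrictlyGE d]
    (hfl : ∀ m, FlFib (K.X m).obj) (hK : Cart K) (U : Opens ((secY Z).obj (simp0.obj B0))) :
    ∀ (k : ℕ) (A : Cx) (N : ℕ), Fin' A → Below A (vl N 0) →
      (lvlBi K d (lvlT hT0 U (joinF A).op)).ExactAt k := by
  intro k
  induction k using Nat.strong_induction_on with
  | _ k ih =>
    intro A N hA hB
    let Φ := biF A N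
    have hT2 : ∀ p, ((biTri hT0 Φ K d U).slice₂ p).Exact := fun p =>
      biTri_slice₂_exact hT0 p (lvlT_exact_of_crit hT0 d hfl hK _ (crit_ptSlice (idx p) hZ hA) U)
    have h1 : ∀ (r m : ℕ), (lvlBi K d (lvlT hT0 U (joinF (disc A N r)).op)).ExactAt m →
        ((biTri hT0 Φ K d U).slice₁ r).ExactAt m := fun r m h => by
      refine biTri_slice₁_exactAt hT0 r m ?_
      rw [slice₂F_biF A N (idx r), cardF_idx r]
      exact h
    have h0 := Tri.slice₁_zero_exactAt _ ((biTri hT0 Φ K d U).exact_of_slices₂ hT2) (k := k) fun r hr => by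
      refine h1 (r + 1) (k - r) ?_
      rcases r with _ | r
      · exact (exact_cone A N hT0 K d U).exactAt _
      · exact ih (k - (r + 1)) (by omega) _ (N + 1) (disc_fin hA _) (disc_below _)
    have h' := exactAt_of_biTri hT0 k h0
    have h'' : (lvlBi K d (lvlT hT0 U (slice₂F Φ (op WithInitial.star)))).ExactAt k := h'
    rw [slice₂F_biF A N WithInitial.star, show cardF WithInitial.star = 0 from rfl, disc_zero hB] at h''
    exact h''

/-- The criterion for diagrams whose matching maps are of universal cohomological descent. -/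
theorem crit_of_MU (hZ : MU Z) : Crit Z := by
  refine crit_of_iso (simpIso Z) (crit_restr simp0 (secY Z) hT0 fun K d _ hfl hK U => ?_)
  have key : (lvlBi K d (lvlT hT0 U simp0)).Exact := fun k =>
    exactAt_join hZ K d hfl hK U k emp 0 ⟨∅, fun t ht => (show t = ∅ from ht).le⟩
      (fun v hv => absurd hv (Finset.singleton_ne_empty v))
  refine lvlBi_exact_of_iso (K := K) (L := lvlT hT0 U simp0) (L' := lvl (simp0 ⋙ secY Z) U ⋙ (bc simp0 (secY Z)).op) d
    (lvlIso (Y := secY Z) simp0 U (fun i => levT hT0 U (simp0.obj i))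
      (fun f => mem_levT (Y := secY Z) hT0 U (simp0.map f)) ?_).symm key
  intro i
  refine Eq.trans ?_ (lev_levT (Y := secY Z) hT0 U simp0 i)
  congr 1
  ext x
  have e : (secY Z).map (hT0.from (simp0.obj B0)) x = x := by
    rw [hT0.hom_ext (hT0.from _) (𝟙 _), (secY Z).map_id]
    rfl
  exact Iff.of_eq (congrArg (fun y => y ∈ U) e).symm

end

end Groth.Agent.CohDesc82.Hyper
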