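import Groth.Agent.CohDesc82.Hyper.Cx
import Groth.Agent.CohDesc82.Perm
import Mathlib.Data.Finset.Sort

/-!
# Restrictions along inclusions of complexes
-/

universe u

set_option autoImplicit false
set_option linter.unusedVariables false
set_option backward.isDefEq.respectTransparency false
set_option backward.isDefEq.respectTransparency.types false

open CategoryTheory CategoryTheory.Limits Opposite TopologicalSpace Simplicial

namespace Groth.Agent.CohDesc82.Hyper

noncomputable section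

/-- Subcomplexes. -/
def Sub (A B : Cx) : Prop := ∀ s, A.F s → B.F s

theorem Sub.refl (A : Cx) : Sub A A := fun _ h => h

theorem Sub.trans {A B C : Cx} (h : Sub A B) (h' : Sub B C) : Sub A C := fun s hs => h' s (h s hs)

/-- Inclusions. -/
def incl {A B : Cx} (h : Sub A B) : A ⟶ B :=
  mkHom id fun s hs => ⟨by rw [Finset.image_id]; exact h s hs, monotoneOn_id⟩

theorem incl_comp {A B C : Cx} (h : Sub A B) (h' : Sub B C) : incl h ≫ incl h' = incl (h.trans h') :=
  hom_ext fun v => rfl

theorem incl_refl {A : Cx} (h : Sub A A) : incl h = 𝟙 A := hom_ext fun v => rfl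

/-- The image of a simplex. -/
def img' {C : Cx} {k : ℕ} (g : C.Simp k) : Finset Vx := Finset.univ.image fun a => (g.1 a).1

theorem img'_comp {C : Cx} {k l : ℕ} (g : C.Simp l) (θ : Fin k →o Fin l) : img' (g.comp θ) ⊆ img' g := fun v hv => by
  obtain ⟨a, -, rfl⟩ := Finset.mem_image.1 hv
  exact Finset.mem_image.2 ⟨θ a, Finset.mem_univ _, rfl⟩

theorem img'_mem {C : Cx} {k : ℕ} (g : C.Simp k) : C.F (img' g) := g.2.2

/-- A simplex lying in another complex. -/
def corestr {A B : Cx} {k : ℕ} (g : B.Simp k) (h : A.F (img' g)) : A.Simp k :=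
  ⟨fun a => ⟨(g.1 a).1, A.down (Finset.singleton_subset_iff.2 (Finset.mem_image.2 ⟨a, Finset.mem_univ _, rfl⟩)) h⟩,
    fun a b hab => g.2.1 hab, h⟩

theorem push_corestr {A B : Cx} (hAB : Sub A B) {k : ℕ} (g : B.Simp k) (h : A.F (img' g)) :
    push (incl hAB) (corestr g h) = g := Subtype.ext (funext fun a => Subtype.ext rfl)

theorem corestr_comp {A B : Cx} {k l : ℕ} (g : B.Simp l) (h : A.F (img' g)) (θ : Fin k →o Fin l)
    (h' : A.F (img' (g.comp θ))) : (corestr g h).comp θ = corestr (g.comp θ) h' :=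
  Subtype.ext (funext fun a => Subtype.ext rfl)

/-- The boundary of a simplex. -/
def bdry (n : ℕ) : Cx where
  F s := (join emp (n + 1)).F s ∧ s.card ≤ n
  empty := ⟨Cx.empty _, by simp⟩
  down hst h := ⟨Cx.down _ hst h.1, (Finset.card_le_card hst).trans h.2⟩

theorem bdry_sub (n : ℕ) : Sub (bdry n) (join emp (n + 1)) := fun s h => h.1

variable (Z : AΔᵒᵖ ⥤ TopCat.{u})

/-- All matching maps are of universal cohomological descent. -/
def MU : Prop := ∀ n : ℕ, UCD ((secY Z).map (incl (bdry_sub n)).op)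

variable {Z}

/-- The full simplex on a set of vertices. -/
def full (s : Finset Vx) : Cx where
  F t := t ⊆ s
  empty := Finset.empty_subset s
  down hst h := hst.trans h

/-- Its boundary. -/
def fullBdry (s : Finset Vx) (hs : s ≠ ∅) : Cx where
  F t := t ⊆ s ∧ t ≠ s
  empty := ⟨Finset.empty_subset s, hs.symm⟩
  down {t t'} hst h := ⟨hst.trans h.1, fun e => h.2 (Finset.Subset.antisymm h.1 (e ▸ hst))⟩

theorem fullBdry_sub (s : Finset Vx) (hs : s ≠ ∅) : Sub (fullBdry s hs) (full s) := fun t h => h.1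

theorem ucd_fullBdry (hZ : MU Z) {s : Finset Vx} {n : ℕ} (hn : s.card = n + 1) (hs : s ≠ ∅) :
    UCD ((secY Z).map (incl (fullBdry_sub s hs)).op) := by
  let e := s.orderIsoOfFin hn
  let up : Vx → Vx := fun v =>
    Sum.elim (fun w => toLex (Sum.inl w)) (fun i => if h : i < n + 1 then (e ⟨i, h⟩ : Vx) else vr i) (ofLex v)
  let dn : Vx → Vx := fun v => if h : v ∈ s then vr (e.symm ⟨v, h⟩ : ℕ) else v
  have hup : ∀ i (hi : i < n + 1), up (vr i) = (e ⟨i, hi⟩ : Vx) := fun i hi => dif_pos hi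
  have hdn : ∀ v (hv : v ∈ s), dn v = vr (e.symm ⟨v, hv⟩ : ℕ) := fun v hv => dif_pos hv
  have hv : ∀ t, (join emp (n + 1)).F t → ∀ v ∈ t, ∃ i, i < n + 1 ∧ v = vr i := fun t ht v hv => by
    obtain ⟨h1, h2⟩ := join_F.1 ht
    obtain ⟨i, rfl⟩ : ∃ i, v = vr i := by
      by_contra hc
      exact Finset.notMem_empty v ((show t.filter (· < vr 0) = ∅ from h1) ▸
        Finset.mem_filter.2 ⟨hv, lt_vr_zero v fun i e => hc ⟨i, e⟩⟩)
    exact ⟨i, h2 i hv, rfl⟩
  have upOk : ∀ t, (join emp (n + 1)).F t → t.image up ⊆ s ∧ MonotoneOn up t ∧ (t.image up).card ≤ t.card :=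
    fun t ht => by
    refine ⟨fun w hw => ?_, fun v hv' w hw hvw => ?_, Finset.card_image_le⟩
    · obtain ⟨v, hv', rfl⟩ := Finset.mem_image.1 hw
      obtain ⟨i, hi, rfl⟩ := hv t ht v hv'
      rw [hup i hi]; exact (e _).2
    · obtain ⟨i, hi, rfl⟩ := hv t ht v hv'
      obtain ⟨j, hj, rfl⟩ := hv t ht w hw
      rw [hup i hi, hup j hj]
      exact e.monotone (show (⟨i, hi⟩ : Fin (n + 1)) ≤ ⟨j, hj⟩ from vr_le_iff.1 hvw)
  have dnOk : ∀ t, t ⊆ s → (join emp (n + 1)).F (t.image dn) ∧ MonotoneOn dn t := fun t ht => by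
    refine ⟨join_F.2 ⟨Finset.filter_eq_empty_iff.2 fun w hw => ?_, fun j hj => ?_⟩, fun v hv' w hw hvw => ?_⟩
    · obtain ⟨v, hv', rfl⟩ := Finset.mem_image.1 hw
      rw [hdn v (ht hv')]; exact not_lt_vr_zero _
    · obtain ⟨v, hv', e'⟩ := Finset.mem_image.1 hj
      rw [hdn v (ht hv')] at e'
      obtain rfl : (e.symm ⟨v, ht hv'⟩ : ℕ) = j := Sum.inr_injective (toLex_inj.1 e')
      exact Fin.isLt _
    · rw [hdn v (ht hv'), hdn w (ht hw)]
      exact vr_le_iff.2 (e.symm.monotone (show (⟨v, ht hv'⟩ : s) ≤ ⟨w, ht hw⟩ from hvw))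
  let a : full s ⟶ join emp (n + 1) := mkHom dn fun t ht => dnOk t ht
  let a' : fullBdry s hs ⟶ bdry n := mkHom dn fun t ht => ⟨⟨(dnOk t ht.1).1, by
    have : t.card < n + 1 := hn ▸ Finset.card_lt_card (Finset.ssubset_iff_subset_ne.2 ht)
    have := Finset.card_image_le (s := t) (f := dn)
    omega⟩, (dnOk t ht.1).2⟩
  let b' : bdry n ⟶ fullBdry s hs := mkHom up fun t ht => ⟨⟨(upOk t ht.1).1, fun h => by
    have := (upOk t ht.1).2.2
    rw [h, hn] at this
    have := ht.2
    omega⟩, (upOk t ht.1).2.1⟩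
  have sq : incl (fullBdry_sub s hs) ≫ a = a' ≫ incl (bdry_sub n) := hom_ext fun v => rfl
  have hab : a' ≫ b' = 𝟙 _ := hom_ext fun v => by
    show up (dn v.1) = v.1
    rw [hdn v.1 (Finset.singleton_subset_iff.1 v.2.1), hup _ (Fin.isLt _)]
    exact congrArg Subtype.val (e.apply_symm_apply _)
  let θ : Sec Z (fullBdry s hs) ⟶ Sec Z (bdry n) := (secY Z).map b'.op
  let μ : Sec Z (join emp (n + 1)) ⟶ Sec Z (bdry n) := (secY Z).map (incl (bdry_sub n)).op
  refine ((hZ n).baseChange θ).of_factor (pullback.fst μ θ ≫ (secY Z).map a.op) ?_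
  have e1 : (secY Z).map a.op ≫ (secY Z).map (incl (fullBdry_sub s hs)).op = μ ≫ (secY Z).map a'.op := by
    rw [← (secY Z).map_comp, ← op_comp, sq, op_comp, (secY Z).map_comp]
  have e2 : θ ≫ (secY Z).map a'.op = 𝟙 _ := by
    show (secY Z).map b'.op ≫ _ = _
    rw [← (secY Z).map_comp, ← op_comp, hab]
    exact (secY Z).map_id _
  refine (Category.assoc _ _ _).trans ((congrArg (pullback.fst μ θ ≫ ·) e1).trans ?_)
  refine (pullback.condition_assoc _).trans ?_
  exact (congrArg (pullback.snd μ θ ≫ ·) e2).trans (Category.comp_id _)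

theorem ucd_cell (hZ : MU Z) {B' B : Cx} (h : Sub B' B) {s : Finset Vx} (hB : B.F s) (hs' : ¬ B'.F s)
    (hcov : ∀ t, B.F t → B'.F t ∨ t = s) : UCD ((secY Z).map (incl h).op) := by
  have hs : s ≠ ∅ := fun e => hs' (e ▸ B'.empty)
  obtain ⟨n, hn⟩ : ∃ n, s.card = n + 1 :=
    ⟨s.card - 1, by have := Finset.card_pos.2 (Finset.nonempty_iff_ne_empty.2 hs); omega⟩
  have hD : Sub (fullBdry s hs) B' := fun t ht => (hcov t (B.down ht.1 hB)).resolve_right ht.2
  let μ : Sec Z (full s) ⟶ Sec Z (fullBdry s hs) := (secY Z).map (incl (fullBdry_sub s hs)).op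
  let θ : Sec Z B' ⟶ Sec Z (fullBdry s hs) := (secY Z).map (incl hD).op
  have hnot : ∀ {k : ℕ} (g : B.Simp k), ¬ img' g ⊆ s → B'.F (img' g) := fun g hg =>
    (hcov _ (img'_mem g)).resolve_right fun e => hg e.le
  have hcond : ∀ {k : ℕ} (g : (fullBdry s hs).Simp k),
      pullback.fst μ θ ≫ coord (push (incl (fullBdry_sub s hs)) g) = pullback.snd μ θ ≫ coord (push (incl hD) g) :=
    fun g => by
      rw [← secY_map_coord, ← secY_map_coord, ← Category.assoc, ← Category.assoc]
      exact congrArg (· ≫ coord g) (pullback.condition (f := μ) (g := θ))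
  let f : ∀ k, B.Simp k → (pullback μ θ ⟶ Z.obj (op (idx k))) := fun k g =>
    if hg : img' g ⊆ s then pullback.fst μ θ ≫ coord (corestr (A := full s) g hg)
    else pullback.snd μ θ ≫ coord (corestr g (hnot g hg))
  let j : pullback μ θ ⟶ Sec Z B := secLift f fun k l ρ g => by
    simp only [f]
    by_cases hg : img' g ⊆ s
    · have hg' : img' (g.comp ρ) ⊆ s := (img'_comp g ρ).trans hg
      rw [dif_pos hg, dif_pos hg', Category.assoc, coord_map, corestr_comp g _ ρ hg']
    · rw [dif_neg hg, Category.assoc, coord_map]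
      by_cases hg' : img' (g.comp ρ) ⊆ s
      · rw [dif_pos hg']
        have hne : img' (g.comp ρ) ≠ s := fun e => hs' (B'.down (e ▸ img'_comp g ρ) (hnot g hg))
        let gd : (fullBdry s hs).Simp k := corestr (g.comp ρ) ⟨hg', hne⟩
        refine Eq.trans ?_ ((hcond gd).symm.trans (congrArg (fun q => pullback.fst μ θ ≫ coord q) ?_))
        · exact congrArg (fun q => pullback.snd μ θ ≫ coord q) (Subtype.ext (funext fun a => Subtype.ext rfl))
        · exact Subtype.ext (funext fun a => Subtype.ext rfl)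
      · rw [dif_neg hg', corestr_comp g _ ρ (hnot _ hg')]
  refine ((ucd_fullBdry hZ hn hs).baseChange θ).of_factor j ?_
  refine sec_hom_ext fun k g => ?_
  rw [Category.assoc, secY_map_coord]
  show f k (push (incl h) g) = _
  simp only [f]
  by_cases hg : img' (push (incl h) g) ⊆ s
  · rw [dif_pos hg]
    have hne : img' (push (incl h) g) ≠ s := fun e => hs' (e ▸ img'_mem g)
    let gd : (fullBdry s hs).Simp k := corestr (push (incl h) g) ⟨hg, hne⟩
    refine Eq.trans ?_ ((hcond gd).trans (congrArg (fun q => pullback.snd μ θ ≫ coord q) ?_))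
    · exact congrArg (fun q => pullback.fst μ θ ≫ coord q) (Subtype.ext (funext fun a => Subtype.ext rfl))
    · exact Subtype.ext (funext fun a => Subtype.ext rfl)
  · rw [dif_neg hg]
    exact congrArg (fun q => pullback.snd μ θ ≫ coord q) (Subtype.ext (funext fun a => Subtype.ext rfl))

/-- Restrictions along finite inclusions are of universal cohomological descent. -/
theorem ucd_incl (hZ : MU Z) : ∀ (m : ℕ) (A B : Cx) (h : Sub A B) (new : Finset (Finset Vx)), new.card ≤ m →
    (∀ t, B.F t → A.F t ∨ t ∈ new) → UCD ((secY Z).map (incl h).op) := by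
  intro m
  induction m with
  | zero =>
    intro A B h new hnew hcov
    have e : A = B := Cx.ext (funext fun t => propext ⟨h t, fun ht =>
      (hcov t ht).resolve_right fun h' => by simp [Finset.card_eq_zero.1 (Nat.le_zero.1 hnew)] at h'⟩)
    subst e
    rw [incl_refl, op_id, (secY Z).map_id]
    exact ucd_of_section _ (𝟙 _) (Category.comp_id _)
  | succ m ih =>
    intro A B h new hnew hcov
    classical
    let rel := new.filter fun t => B.F t ∧ ¬ A.F t
    have hrel : rel.card ≤ m + 1 := (Finset.card_filter_le _ _).trans hnew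
    have hcov' : ∀ t, B.F t → A.F t ∨ t ∈ rel := fun t ht => by
      by_cases hA : A.F t
      · exact Or.inl hA
      · exact Or.inr (Finset.mem_filter.2 ⟨(hcov t ht).resolve_left hA, ht, hA⟩)
    rcases rel.eq_empty_or_nonempty with h0 | hne
    · exact ih A B h ∅ (Nat.zero_le _) fun t ht => by simpa [h0] using hcov' t ht
    obtain ⟨s, hs, hmax⟩ := rel.exists_max_image Finset.card hne
    obtain ⟨-, hsB, hsA⟩ := Finset.mem_filter.1 hs
    let B' : Cx :=
      { F := fun t => B.F t ∧ t ≠ s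
        empty := ⟨B.empty, fun e => hsA (e ▸ A.empty)⟩
        down := fun {t t'} htt ht' => ⟨B.down htt ht'.1, fun e => by
          subst e
          rcases hcov' t' ht'.1 with h' | h'
          · exact hsA (A.down htt h')
          · exact ht'.2 (Finset.eq_of_subset_of_card_le htt (hmax t' h')).symm⟩ }
    have h1 : Sub A B' := fun t ht => ⟨h t ht, fun e => hsA (e ▸ ht)⟩
    have h2 : Sub B' B := fun t ht => ht.1
    rw [show incl h = incl h1 ≫ incl h2 from (incl_comp h1 h2).symm, op_comp, (secY Z).map_comp]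
    refine UCD.comp (ucd_cell hZ h2 hsB (fun h' => h'.2 rfl) fun t ht => ?_) (ih A B' h1 (rel.erase s) ?_ fun t ht => ?_)
    · by_cases e : t = s
      · exact Or.inr e
      · exact Or.inl ⟨ht, e⟩
    · rw [Finset.card_erase_of_mem hs]; omega
    · rcases hcov' t ht.1 with h' | h'
      · exact Or.inl h'
      · exact Or.inr (Finset.mem_erase.2 ⟨ht.2, h'⟩)

/-- All faces are among finitely many. -/
def Fin' (A : Cx) : Prop := ∃ V : Finset Vx, ∀ t, A.F t → t ⊆ V

theorem ucd_incl_of_fin (hZ : MU Z) {A B : Cx} (h : Sub A B) (hB : Fin' B) : UCD ((secY Z).map (incl h).op) :=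
  let ⟨V, hV⟩ := hB
  ucd_incl hZ _ A B h V.powerset le_rfl fun t ht => Or.inr (Finset.mem_powerset.2 (hV t ht))

end

end Groth.Agent.CohDesc82.Hyper
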